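import Cfsg.Agent.Lib.PSpAmalgam.Enum

/-!
# Coset tables for the relations of `PSp₄(3)`
-/

set_option autoImplicit false

namespace Cfsg.Agent.PSpAmalgam

open Enum (com rw')

/-- Representatives. -/
def repsOne : List (List ℕ) :=
  [[], [2], [2, 1], [2, 1, 0], [2, 1, 2], [2, 1, 3], [2, 1, 4], [2, 1, 7], [2, 1, 0, 2], [2, 1, 0, 3], [2, 1, 0, 7], [2, 1, 2, 3], [2, 1, 2, 7], [2, 1, 3, 1], [2, 1, 3, 4], [2, 1, 3, 5], [2, 1, 4, 2], [2, 1, 4, 7], [2, 1, 0, 2, 3], [2, 1, 0, 2, 7], [2, 1, 2, 3, 1], [2, 1, 2, 3, 5], [2, 1, 3, 4, 2], [2, 1, 4, 2, 3], [2, 1, 0, 2, 3, 1], [2, 1, 0, 2, 3, 5], [2, 1, 2, 3, 1, 0], [2, 1, 2, 3, 1, 3], [2, 1, 2, 3, 1, 4], [2, 1, 2, 3, 1, 7], [2, 1, 2, 3, 5, 0], [2, 1,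 2, 3, 5, 3], [2, 1, 2, 3, 5, 4], [2, 1, 2, 3, 5, 7], [2, 1, 3, 4, 2, 1], [2, 1, 3, 4, 2, 5], [2, 1, 0, 2, 3, 1, 3], [2, 1, 0, 2, 3, 1, 4], [2, 1, 0, 2, 3, 5, 4], [2, 1, 0, 2, 3, 5, 7]]

/-- Tree edges. -/
def treeOne : List (ℕ × ℕ × ℕ) :=
  [(0, 2, 1), (1, 1, 2), (2, 0, 3), (2, 2, 4), (2, 3, 5), (2, 4, 6), (2, 7, 7), (3, 2, 8), (3, 3, 9), (3, 7, 10), (4, 3, 11), (4, 7, 12), (5, 1, 13), (5, 4, 14), (5, 5, 15), (6, 2, 16), (6, 7, 17), (8, 3, 18), (8, 7, 19), (11, 1, 20), (11, 5, 21), (14, 2, 22), (16, 3, 23), (18, 1, 24), (18, 5, 25), (20, 0, 26), (20, 3, 27), (20, 4, 28), (20, 7, 29), (21, 0, 30), (21, 3, 31), (21, 4, 32), (21, 7, 33), (22, 1, 34), (22, 5, 35), (24, 3, 36), (24, 4, 37),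 (25, 4, 38), (25, 7, 39)]

/-- Deductions. -/
def stepsOne : List Enum.Step :=
  [⟨4, 1, [1], 1, 2, 0⟩,
   ⟨5, 2, [0, 0, 0, 1, 2], 2, 1, 1⟩,
   ⟨7, 4, [2, 1, 0, 0, 1, 2, 4], 4, 4, 4⟩,
   ⟨8, 4, [2, 1, 0, 0, 1, 2, 4], 4, 5, 4⟩,
   ⟨12, 1, [0, 0, 1], 1, 3, 1⟩,
   ⟨14, 9, [0, 0, 0, 0, 0, 0, 0, 0, 0, 1], 1, 4, 1⟩,
   ⟨2, 3, [2, 1, 2, 1, 1, 2, 3], 3, 1, 6⟩,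
   ⟨8, 3, [1, 0, 0, 1, 2, 4, 4], 4, 2, 2⟩,
   ⟨14, 3, [5, 2, 1, 1, 0, 0, 1, 2, 5, 15], 15, 3, 15⟩,
   ⟨0, 1, [2, 3], 3, 0, 6⟩,
   ⟨3, 3, [3, 2, 1, 2, 3], 3, 5, 6⟩,
   ⟨9, 1, [2, 5], 5, 3, 7⟩,
   ⟨10, 1, [3, 2, 5], 5, 0, 9⟩,
   ⟨12, 2, [2, 4, 11], 11, 2, 7⟩,
   ⟨13, 4, [2, 1, 2, 5, 13], 13, 1, 7⟩,
   ⟨14, 5, [5, 2, 4, 4, 2, 1, 1, 2, 5, 13], 13, 7, 13⟩,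
   ⟨4, 1, [8], 8, 2, 3⟩,
   ⟨9, 1, [3, 9], 9, 3, 10⟩,
   ⟨12, 2, [3, 8, 18], 18, 2, 10⟩,
   ⟨6, 4, [3, 2, 4, 4, 2, 3, 8], 8, 4, 8⟩,
   ⟨9, 1, [4, 11], 11, 3, 12⟩,
   ⟨10, 1, [4, 4, 11], 11, 0, 11⟩,
   ⟨12, 2, [4, 2, 5], 5, 2, 12⟩,
   ⟨13, 4, [4, 4, 4, 11, 20], 20, 1, 12⟩,
   ⟨14, 4, [24, 18, 8, 3, 2, 4, 4, 11, 21, 31], 31, 1, 36⟩,
   ⟨16, 8, [12, 4, 4, 2, 1, 1, 2, 4, 4, 11, 21], 21, 2, 20⟩,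
   ⟨0, 1, [5, 9], 9, 0, 14⟩,
   ⟨1, 2, [5, 13, 7], 7, 1, 15⟩,
   ⟨4, 1, [12], 12, 2, 5⟩,
   ⟨10, 1, [9, 5, 7], 7, 0, 10⟩,
   ⟨14, 9, [5, 13, 13, 5, 7, 15, 15, 7, 5, 12], 12, 4, 12⟩,
   ⟨4, 1, [16], 16, 2, 6⟩,
   ⟨6, 6, [6, 2, 4, 4, 2, 6, 16], 16, 4, 16⟩,
   ⟨7, 6, [6, 2, 4, 4, 2, 6, 16], 16, 5, 16⟩,
   ⟨8, 2, [3, 6, 16, 16, 6, 3, 8], 8, 1, 8⟩,
   ⟨10, 0, [5, 2, 6], 6, 3, 14⟩,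
   ⟨12, 2, [6, 16, 23], 23, 2, 17⟩,
   ⟨15, 9, [3, 6, 2, 1, 1, 2, 6, 16, 16, 6, 17], 17, 1, 9⟩,
   ⟨3, 4, [7, 15, 5, 9, 17], 17, 5, 10⟩,
   ⟨4, 0, [7], 7, 2, 11⟩,
   ⟨9, 1, [8, 18], 18, 3, 19⟩,
   ⟨10, 1, [8, 8, 18], 18, 0, 18⟩,
   ⟨12, 2, [8, 3, 9], 9, 2, 19⟩,
   ⟨13, 4, [8, 8, 8, 18, 24], 24, 1, 19⟩,
   ⟨4, 1, [19], 19, 2, 9⟩,
   ⟨4, 0, [10], 10, 2, 18⟩,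
   ⟨10, 3, [3, 6, 17], 17, 4, 10⟩,
   ⟨14, 4, [6, 3, 10, 18, 18, 10, 17, 6, 3, 9], 9, 1, 14⟩,
   ⟨1, 2, [11, 20, 12], 12, 1, 21⟩,
   ⟨2, 3, [20, 12, 20, 11, 11, 20, 26], 26, 1, 28⟩,
   ⟨2, 3, [21, 11, 21, 12, 12, 21, 30], 30, 1, 32⟩,
   ⟨6, 4, [9, 5, 12, 12, 5, 9, 19], 19, 4, 19⟩,
   ⟨8, 5, [5, 12, 21, 20, 12, 5, 15], 15, 6, 13⟩,
   ⟨14, 2, [25, 18, 8, 8, 19, 9, 5, 12, 21, 31], 31, 5, 39⟩,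
   ⟨4, 1, [15], 15, 2, 13⟩,
   ⟨7, 0, [15, 5, 12, 12, 5, 15, 13], 13, 0, 13⟩,
   ⟨8, 3, [12, 5, 15, 13, 7, 11, 20], 20, 2, 21⟩,
   ⟨14, 9, [13, 7, 2, 1, 1, 2, 7, 13, 13, 15], 15, 4, 15⟩,
   ⟨1, 0, [17, 9, 14], 14, 1, 10⟩,
   ⟨3, 2, [13, 5, 14, 10, 17], 17, 0, 7⟩,
   ⟨4, 1, [22], 22, 2, 14⟩,
   ⟨6, 6, [14, 5, 12, 12, 5, 14, 22], 22, 4, 22⟩,
   ⟨7, 5, [22, 14, 5, 12, 21, 20, 28], 28, 6, 34⟩,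
   ⟨9, 0, [6, 14], 14, 3, 17⟩,
   ⟨12, 1, [6, 14, 22], 22, 3, 16⟩,
   ⟨9, 1, [16, 23], 23, 3, 22⟩,
   ⟨10, 1, [16, 16, 23], 23, 0, 23⟩,
   ⟨13, 3, [22, 16, 16, 16, 23], 23, 1, 35⟩,
   ⟨4, 0, [17], 17, 2, 23⟩,
   ⟨7, 5, [23, 17, 7, 11, 20, 21, 32], 32, 6, 35⟩,
   ⟨1, 2, [18, 24, 19], 19, 1, 25⟩,
   ⟨0, 1, [20, 26], 26, 0, 28⟩,
   ⟨3, 3, [26, 20, 12, 21, 30], 30, 5, 28⟩,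
   ⟨7, 1, [18, 10, 7, 11, 21, 20, 26], 26, 2, 25⟩,
   ⟨9, 1, [20, 27], 27, 3, 29⟩,
   ⟨12, 2, [20, 21, 31], 31, 2, 29⟩,
   ⟨13, 4, [20, 12, 21, 31, 36], 36, 1, 29⟩,
   ⟨14, 8, [21, 20, 12, 4, 4, 11, 20, 29, 36, 24], 24, 6, 30⟩,
   ⟨15, 2, [18, 18, 10, 7, 11, 4, 4, 12, 20, 26, 28], 28, 3, 24⟩,
   ⟨0, 1, [21, 30], 30, 0, 32⟩,
   ⟨3, 3, [30, 21, 11, 20, 26], 26, 5, 32⟩,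
   ⟨9, 1, [21, 31], 31, 3, 33⟩,
   ⟨12, 2, [21, 20, 27], 27, 2, 33⟩,
   ⟨1, 1, [35, 22, 34], 34, 1, 23⟩,
   ⟨16, 10, [22, 14, 10, 3, 6, 16, 16, 23, 34, 28, 30], 30, 3, 34⟩,
   ⟨4, 0, [24], 24, 2, 30⟩,
   ⟨5, 3, [19, 24, 30, 32, 26], 26, 6, 25⟩,
   ⟨8, 5, [30, 24, 19, 9, 14, 22, 35], 35, 6, 32⟩,
   ⟨9, 1, [24, 36], 36, 3, 28⟩,
   ⟨13, 2, [26, 28, 24, 19, 25], 25, 3, 32⟩,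
   ⟨14, 7, [32, 30, 24, 19, 8, 8, 18, 24, 28, 26], 26, 7, 35⟩,
   ⟨8, 5, [26, 25, 18, 10, 17, 23, 34], 34, 6, 28⟩,
   ⟨9, 1, [25, 32], 32, 3, 39⟩,
   ⟨10, 3, [32, 21, 33], 33, 4, 25⟩,
   ⟨13, 4, [25, 18, 24, 36, 29], 29, 1, 39⟩,
   ⟨10, 0, [24, 28, 26], 26, 3, 37⟩,
   ⟨14, 8, [25, 26, 28, 24, 18, 19, 25, 39, 29, 27], 27, 6, 33⟩,
   ⟨16, 8, [36, 28, 26, 25, 18, 19, 24, 30, 32, 39, 29], 29, 2, 31⟩,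
   ⟨10, 1, [20, 28, 24], 24, 0, 27⟩,
   ⟨10, 3, [20, 26, 35], 35, 4, 29⟩,
   ⟨11, 6, [29, 20, 21, 30, 24, 28, 34], 34, 4, 31⟩,
   ⟨10, 1, [32, 30, 34], 34, 0, 39⟩,
   ⟨15, 3, [24, 30, 21, 20, 29, 39, 32, 30, 32, 26, 37], 37, 5, 27⟩,
   ⟨0, 2, [34, 39], 39, 0, 31⟩,
   ⟨2, 4, [29, 36, 31, 34, 23, 23, 35], 35, 0, 36⟩,
   ⟨7, 5, [29, 31, 34, 28, 30, 24, 37], 37, 6, 39⟩,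
   ⟨14, 4, [31, 39, 32, 35, 29, 31, 36, 28, 26, 37], 37, 1, 33⟩,
   ⟨15, 7, [26, 28, 36, 31, 34, 23, 22, 35, 29, 31, 39], 39, 6, 37⟩,
   ⟨6, 5, [35, 32, 21, 20, 26, 25, 38], 38, 6, 36⟩,
   ⟨11, 4, [36, 35, 32, 39, 37, 24, 30], 30, 7, 38⟩,
   ⟨0, 0, [25, 33], 33, 0, 38⟩,
   ⟨7, 1, [29, 31, 39, 37, 27, 33, 38], 38, 2, 36⟩,
   ⟨8, 0, [36, 29, 31, 39, 37, 27, 33], 33, 1, 38⟩,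
   ⟨11, 6, [33, 21, 20, 26, 25, 39, 37], 37, 4, 27⟩,
   ⟨13, 1, [29, 39, 31, 33, 38], 38, 1, 27⟩,
   ⟨9, 0, [30, 34], 34, 3, 38⟩,
   ⟨11, 2, [31, 21, 20, 28, 34, 38, 36], 36, 0, 29⟩,
   ⟨9, 2, [26, 37], 37, 3, 35⟩]

/-- Representatives. -/
def repsTwo : List (List ℕ) :=
  [[], [2], [3], [6], [7], [2, 1], [2, 3], [2, 5], [2, 7], [3, 6], [6, 7], [2, 1, 0], [2, 1, 2], [2, 1, 3], [2, 1, 4], [2, 1, 6], [2, 1, 7], [2, 3, 5], [2, 5, 0], [2, 5, 2], [2, 5, 4], [2, 5, 6], [2, 5, 7], [2, 1, 0, 2], [2, 1, 0, 7], [2, 1, 2, 5], [2, 1, 6, 1]]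

/-- Tree edges. -/
def treeTwo : List (ℕ × ℕ × ℕ) :=
  [(0, 2, 1), (0, 3, 2), (0, 6, 3), (0, 7, 4), (1, 1, 5), (1, 3, 6), (1, 5, 7), (1, 7, 8), (2, 6, 9), (3, 7, 10), (5, 0, 11), (5, 2, 12), (5, 3, 13), (5, 4, 14), (5, 6, 15), (5, 7, 16), (6, 5, 17), (7, 0, 18), (7, 2, 19), (7, 4, 20), (7, 6, 21), (7, 7, 22), (11, 2, 23), (11, 7, 24), (12, 5, 25), (15, 1, 26)]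

/-- Deductions. -/
def stepsTwo : List Enum.Step :=
  [⟨2, 1, [0, 1], 1, 2, 3⟩,
   ⟨3, 1, [0, 2], 2, 3, 4⟩,
   ⟨4, 1, [0, 0, 1], 1, 0, 1⟩,
   ⟨5, 2, [0, 1, 6], 6, 6, 2⟩,
   ⟨6, 2, [0, 0, 2], 2, 4, 2⟩,
   ⟨7, 2, [0, 0, 2], 2, 5, 2⟩,
   ⟨8, 4, [0, 0, 0, 1, 5], 5, 1, 3⟩,
   ⟨10, 5, [7, 1, 0, 0, 0, 0, 1, 7, 20], 20, 7, 19⟩,
   ⟨1, 2, [1, 5, 3], 3, 1, 7⟩,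
   ⟨3, 1, [1, 6], 6, 3, 8⟩,
   ⟨4, 1, [1, 1, 3], 3, 0, 3⟩,
   ⟨6, 2, [1, 1, 6], 6, 4, 6⟩,
   ⟨7, 2, [1, 5, 13], 13, 5, 6⟩,
   ⟨2, 1, [2, 6], 6, 2, 9⟩,
   ⟨5, 2, [2, 6, 8], 8, 6, 4⟩,
   ⟨6, 2, [2, 2, 4], 4, 4, 4⟩,
   ⟨7, 2, [2, 2, 4], 4, 5, 4⟩,
   ⟨8, 4, [2, 2, 2, 6, 13], 13, 1, 9⟩,
   ⟨5, 3, [0, 2, 9], 9, 7, 3⟩,
   ⟨6, 2, [3, 3, 9], 9, 4, 9⟩,
   ⟨4, 1, [4, 4, 8], 8, 0, 8⟩,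
   ⟨0, 1, [5, 11], 11, 0, 14⟩,
   ⟨2, 1, [5, 12], 12, 2, 15⟩,
   ⟨3, 1, [5, 13], 13, 3, 16⟩,
   ⟨4, 1, [11, 5, 12], 12, 0, 23⟩,
   ⟨1, 2, [6, 13, 9], 9, 1, 17⟩,
   ⟨7, 2, [6, 13, 16], 16, 5, 8⟩,
   ⟨0, 1, [7, 18], 18, 0, 20⟩,
   ⟨2, 1, [7, 19], 19, 2, 21⟩,
   ⟨7, 3, [1, 6, 17], 17, 7, 7⟩,
   ⟨5, 0, [3, 1, 8], 8, 2, 10⟩,
   ⟨3, 0, [3, 9], 9, 3, 10⟩,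
   ⟨5, 2, [9, 2, 4], 4, 6, 10⟩,
   ⟨6, 2, [9, 9, 10], 10, 4, 10⟩,
   ⟨7, 0, [7, 3, 10], 10, 1, 22⟩,
   ⟨7, 2, [13, 9, 10], 10, 5, 16⟩,
   ⟨1, 2, [16, 10, 22], 22, 1, 8⟩,
   ⟨6, 0, [11, 5, 16], 16, 0, 24⟩,
   ⟨10, 1, [5, 1, 1, 8, 4, 4, 10, 16, 24], 24, 1, 15⟩,
   ⟨3, 0, [7, 17], 17, 3, 22⟩,
   ⟨6, 0, [7, 20, 19], 19, 0, 22⟩,
   ⟨8, 0, [15, 5, 3, 7, 19], 19, 1, 24⟩,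
   ⟨1, 2, [24, 15, 26], 26, 1, 19⟩,
   ⟨9, 6, [11, 24, 15, 5, 1, 3, 7, 21], 21, 5, 23⟩,
   ⟨9, 5, [6, 2, 0, 0, 1, 7, 19, 24], 24, 6, 13⟩,
   ⟨9, 3, [6, 2, 2, 9, 3, 7, 19, 26], 26, 2, 17⟩,
   ⟨10, 4, [17, 26, 19, 7, 3, 3, 7, 19, 26], 26, 4, 22⟩,
   ⟨9, 3, [12, 5, 1, 0, 4, 4, 8, 22], 22, 2, 25⟩,
   ⟨10, 5, [22, 8, 4, 4, 4, 4, 8, 22, 19], 19, 7, 25⟩,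
   ⟨5, 1, [13, 5, 12], 12, 3, 24⟩,
   ⟨9, 4, [22, 10, 8, 6, 13, 24, 19, 21], 21, 1, 25⟩,
   ⟨4, 2, [7, 19, 22], 22, 6, 18⟩,
   ⟨5, 2, [7, 19, 20], 20, 6, 17⟩,
   ⟨8, 3, [21, 7, 1, 5, 12], 12, 1, 23⟩,
   ⟨9, 6, [17, 7, 1, 3, 5, 12, 23, 11], 11, 5, 20⟩,
   ⟨9, 2, [22, 8, 4, 4, 10, 9, 17, 20], 20, 5, 18⟩,
   ⟨10, 4, [7, 21, 25, 22, 10, 10, 22, 25, 21], 21, 4, 17⟩,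
   ⟨3, 0, [24, 11], 11, 3, 12⟩,
   ⟨5, 1, [12, 11, 23], 23, 3, 15⟩,
   ⟨6, 1, [12, 11, 14], 14, 3, 23⟩,
   ⟨7, 0, [23, 12, 11], 11, 1, 14⟩,
   ⟨9, 1, [6, 9, 17, 26, 15, 12, 11, 14], 14, 2, 13⟩,
   ⟨10, 1, [22, 10, 10, 9, 6, 13, 14, 11, 14], 14, 1, 18⟩,
   ⟨6, 2, [12, 23, 15], 15, 4, 24⟩,
   ⟨10, 8, [12, 23, 21, 7, 3, 3, 10, 8, 16], 16, 6, 23⟩,
   ⟨2, 1, [13, 24], 24, 2, 14⟩,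
   ⟨4, 3, [24, 15, 12], 12, 4, 13⟩,
   ⟨5, 2, [13, 24, 11], 11, 6, 16⟩,
   ⟨3, 2, [23, 15], 15, 3, 14⟩,
   ⟨6, 2, [14, 5, 13], 13, 4, 23⟩,
   ⟨7, 1, [23, 14, 18], 18, 3, 21⟩,
   ⟨8, 2, [19, 24, 14, 18, 20], 20, 2, 26⟩,
   ⟨0, 0, [24, 15], 15, 0, 16⟩,
   ⟨7, 1, [14, 15, 26], 26, 3, 18⟩,
   ⟨5, 1, [22, 17, 20], 20, 3, 25⟩,
   ⟨6, 1, [22, 17, 21], 21, 3, 26⟩,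
   ⟨10, 2, [14, 11, 24, 13, 9, 6, 17, 21, 25], 25, 2, 18⟩,
   ⟨6, 2, [18, 20, 25], 25, 4, 21⟩,
   ⟨0, 2, [22, 26], 26, 0, 19⟩,
   ⟨6, 2, [20, 7, 17], 17, 4, 25⟩]

/-- Representatives. -/
def repsThree : List (List ℕ) :=
  [[], [0], [1], [4], [5], [0, 1], [0, 5], [1, 0], [1, 1], [1, 4], [4, 1], [4, 5], [5, 0], [5, 4], [0, 1, 0], [0, 1, 1], [0, 1, 4], [0, 5, 0], [0, 5, 4], [1, 0, 1], [1, 0, 5], [1, 1, 4], [4, 1, 0], [4, 5, 0]]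

/-- Tree edges. -/
def treeThree : List (ℕ × ℕ × ℕ) :=
  [(0, 0, 1), (0, 1, 2), (0, 4, 3), (0, 5, 4), (1, 1, 5), (1, 5, 6), (2, 0, 7), (2, 1, 8), (2, 4, 9), (3, 1, 10), (3, 5, 11), (4, 0, 12), (4, 4, 13), (5, 0, 14), (5, 1, 15), (5, 4, 16), (6, 0, 17), (6, 4, 18), (7, 1, 19), (7, 5, 20), (8, 4, 21), (10, 0, 22), (11, 0, 23)]

/-- Deductions. -/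
def stepsThree : List Enum.Step :=
  [⟨0, 1, [0, 1], 1, 0, 3⟩,
   ⟨1, 2, [0, 2, 8], 8, 1, 4⟩,
   ⟨2, 3, [2, 8, 2, 0, 1, 5, 14], 14, 1, 9⟩,
   ⟨3, 2, [5, 1, 0, 2, 8], 8, 0, 15⟩,
   ⟨4, 0, [0], 0, 2, 1⟩,
   ⟨5, 0, [0], 0, 3, 2⟩,
   ⟨1, 2, [1, 5, 15], 15, 1, 6⟩,
   ⟨2, 3, [5, 15, 5, 1, 3, 10, 22], 22, 1, 16⟩,
   ⟨4, 0, [1], 1, 2, 3⟩,
   ⟨5, 0, [1], 1, 3, 5⟩,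
   ⟨0, 1, [2, 7], 7, 0, 9⟩,
   ⟨3, 3, [7, 2, 8, 4, 12], 12, 5, 19⟩,
   ⟨4, 0, [2], 2, 2, 7⟩,
   ⟨5, 0, [2], 2, 3, 8⟩,
   ⟨3, 1, [8, 2, 0, 3, 10], 10, 1, 21⟩,
   ⟨4, 0, [3], 3, 2, 0⟩,
   ⟨5, 0, [3], 3, 3, 10⟩,
   ⟨0, 1, [4, 12], 12, 0, 13⟩,
   ⟨3, 4, [4, 0, 2, 7, 20], 20, 5, 12⟩,
   ⟨4, 0, [4], 4, 2, 12⟩,
   ⟨5, 0, [4], 4, 3, 0⟩,
   ⟨0, 1, [5, 14], 14, 0, 16⟩,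
   ⟨3, 3, [14, 5, 15, 6, 17], 17, 5, 9⟩,
   ⟨4, 0, [5], 5, 2, 14⟩,
   ⟨5, 0, [5], 5, 3, 15⟩,
   ⟨0, 1, [6, 17], 17, 0, 18⟩,
   ⟨2, 1, [4, 0, 1, 5, 1, 6, 17], 17, 1, 13⟩,
   ⟨3, 3, [17, 6, 1, 5, 14], 14, 5, 13⟩,
   ⟨4, 0, [6], 6, 2, 17⟩,
   ⟨5, 0, [6], 6, 3, 1⟩,
   ⟨4, 0, [7], 7, 2, 9⟩,
   ⟨5, 0, [7], 7, 3, 19⟩,
   ⟨0, 1, [8, 15], 15, 0, 21⟩,
   ⟨4, 0, [8], 8, 2, 15⟩,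
   ⟨5, 0, [8], 8, 3, 4⟩,
   ⟨4, 0, [9], 9, 2, 2⟩,
   ⟨5, 0, [9], 9, 3, 17⟩,
   ⟨1, 1, [3, 10, 21], 21, 1, 11⟩,
   ⟨3, 3, [22, 10, 21, 11, 23], 23, 5, 16⟩,
   ⟨4, 0, [10], 10, 2, 22⟩,
   ⟨5, 0, [10], 10, 3, 21⟩,
   ⟨2, 1, [6, 1, 3, 10, 3, 11, 23], 23, 1, 18⟩,
   ⟨3, 3, [23, 11, 3, 10, 22], 22, 5, 18⟩,
   ⟨4, 0, [11], 11, 2, 23⟩,
   ⟨5, 0, [11], 11, 3, 3⟩,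
   ⟨2, 4, [7, 20, 12, 13, 14, 16, 23], 23, 0, 20⟩,
   ⟨4, 0, [12], 12, 2, 13⟩,
   ⟨5, 0, [12], 12, 3, 20⟩,
   ⟨4, 0, [13], 13, 2, 4⟩,
   ⟨5, 0, [13], 13, 3, 14⟩,
   ⟨4, 0, [14], 14, 2, 16⟩,
   ⟨5, 0, [14], 14, 3, 9⟩,
   ⟨4, 0, [15], 15, 2, 21⟩,
   ⟨5, 0, [15], 15, 3, 6⟩,
   ⟨4, 0, [16], 16, 2, 5⟩,
   ⟨5, 0, [16], 16, 3, 23⟩,
   ⟨2, 2, [12, 13, 14, 13, 17, 18, 22], 22, 0, 19⟩,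
   ⟨4, 0, [17], 17, 2, 18⟩,
   ⟨5, 0, [17], 17, 3, 13⟩,
   ⟨4, 0, [18], 18, 2, 6⟩,
   ⟨5, 0, [18], 18, 3, 22⟩,
   ⟨0, 0, [22, 19], 19, 0, 10⟩,
   ⟨3, 2, [21, 10, 19, 12, 20], 20, 0, 11⟩,
   ⟨4, 0, [19], 19, 2, 10⟩,
   ⟨5, 0, [19], 19, 3, 12⟩,
   ⟨4, 0, [20], 20, 2, 11⟩,
   ⟨5, 0, [20], 20, 3, 7⟩,
   ⟨4, 0, [21], 21, 2, 8⟩,
   ⟨5, 0, [21], 21, 3, 11⟩,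
   ⟨4, 0, [22], 22, 2, 19⟩,
   ⟨5, 0, [22], 22, 3, 16⟩,
   ⟨4, 0, [23], 23, 2, 20⟩,
   ⟨5, 0, [23], 23, 3, 18⟩]

/-- The relators in `A, S, u, d`. -/
def relsOne : List (List ℕ) :=
  [[0, 0, 0], [1, 1, 1, 1], [0, 1, 0, 1, 0, 1] ++ rw' [1, 1], com [1, 1] [0], [2, 2], com [2] [1, 1],
   com [0] [2, 0, 2], com [0] [2, 1, 2], com [1] [2, 1, 2], [3, 3, 3], com [3] [0], com [3] [2, 0, 2],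
   [2, 3, 2, 3], [1, 1, 3, 1, 1, 3], [1, 3, 5, 3] ++ rw' [1, 3, 5] ++ rw' [3] ++ rw' [2, 0, 2],
   [0, 1, 3, 5, 4] ++ rw' [1, 3, 5, 3, 2, 0, 2], [2, 1, 3, 5, 2, 1, 3, 5, 2, 1, 3, 5]]

/-- The relators in `A, S, d, z`. -/
def relsTwo : List (List ℕ) :=
  [[0, 0, 0], [1, 1, 1, 1], [2, 2, 2], [3, 3, 3], com [2] [0], com [2] [3], com [0] [3], com [1] [3],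
   [1, 1, 2, 1, 1, 2], [1, 2, 5, 2] ++ rw' [1, 2, 5] ++ rw' [2] ++ rw' [3],
   [0, 1, 2, 5, 4] ++ rw' [1, 2, 5, 2, 3]]

/-- The relators of `SL₂(3)`, the last two letters doubled. -/
def relsThree : List (List ℕ) :=
  [[0, 0, 0], [1, 1, 1, 1], [0, 1, 0, 1, 0, 1] ++ rw' [1, 1], com [1, 1] [0], [2, 4], [3, 5]]

theorem check_one : Enum.check relsOne repsOne [0, 1, 3] treeOne stepsOne 40 = true := by decide +kernel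

theorem check_two : Enum.check relsTwo repsTwo [0, 1] treeTwo stepsTwo 27 = true := by decide +kernel

theorem check_three : Enum.check relsThree repsThree [] treeThree stepsThree 24 = true := by decide +kernel

end Cfsg.Agent.PSpAmalgam
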