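import Cfsg.Agent.Lib.PSpAmalgam.Rels
import Cfsg.Agent.Lib.PSpAmalgam.EnumData

/-!
# A group with the relations has order at most 25920
-/

set_option autoImplicit false
set_option linter.unusedSectionVars false

namespace Cfsg.Agent.PSpAmalgam

open Subgroup Enum

variable {G : Type*} [Group G] {A S u d : G}

theorem wp_com (g : ℕ → G) (hg : ∀ x < 8, g (ivl x) = (g x)⁻¹) :
    ∀ w : List ℕ, (∀ x ∈ w, x < 8) → wp g (rw' w) = (wp g w)⁻¹
  | [], _ => by simp [rw', wp]
  | x :: w, h => by
    have ih := wp_com g hg w fun y hy => h y (List.mem_cons_of_mem _ hy)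
    have e : rw' (x :: w) = rw' w ++ [ivl x] := by simp [rw']
    rw [e, wp_append, ih]
    simp [wp, hg x (h x List.mem_cons_self), mul_inv_rev]

theorem com_eq_one {a b : G} (h : a * b = b * a) : a * b * a⁻¹ * b⁻¹ = 1 := by rw [h]; group

theorem wp_com' (g : ℕ → G) (hg : ∀ x < 8, g (ivl x) = (g x)⁻¹) (a b : List ℕ) (ha : ∀ x ∈ a, x < 8)
    (hb : ∀ x ∈ b, x < 8) (h : wp g a * wp g b = wp g b * wp g a) : wp g (com a b) = 1 := by
  rw [com, wp_append, wp_append, wp_append, wp_com g hg a ha, wp_com g hg b hb]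
  exact com_eq_one h

theorem wp_rel' (g : ℕ → G) (hg : ∀ x < 8, g (ivl x) = (g x)⁻¹) (a b : List ℕ)
    (hb : ∀ x ∈ b, x < 8) (h : wp g a = wp g b) : wp g (a ++ rw' b) = 1 := by
  rw [wp_append, wp_com g hg b hb, h, mul_inv_cancel]

theorem Rels.wp_one (R : Rels A S u d) : ∀ w ∈ relsOne, wp (gv A S u d) w = 1 := by
  have hg := gv_ivl A S u d
  intro w hw
  simp only [relsOne, List.mem_cons, List.not_mem_nil, or_false] at hw
  rcases hw with rfl | rfl | rfl | rfl | rfl | rfl | rfl | rfl | rfl | rfl | rfl | rfl | rfl | rfl | rfl | rfl | rfl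
  · simpa [wp, gv, mul_assoc] using R.A3
  · simpa [wp, gv, mul_assoc] using R.S4
  · exact wp_rel' _ hg _ _ (by decide) (by simpa [wp, gv, mul_assoc] using R.AS)
  · exact wp_com' _ hg _ _ (by decide) (by decide) (by simpa [wp, gv, mul_assoc] using R.SA)
  · simpa [wp, gv, mul_assoc] using R.u2
  · exact wp_com' _ hg _ _ (by decide) (by decide) (by simpa [wp, gv, mul_assoc] using R.uS)
  · exact wp_com' _ hg _ _ (by decide) (by decide) (by simpa [wp, gv, mul_assoc] using R.AA)
  · exact wp_com' _ hg _ _ (by decide) (by decide) (by simpa [wp, gv, mul_assoc] using R.AuS)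
  · exact wp_com' _ hg _ _ (by decide) (by decide) (by simpa [wp, gv, mul_assoc] using R.SuS)
  · simpa [wp, gv, mul_assoc] using R.d3
  · exact wp_com' _ hg _ _ (by decide) (by decide) (by simpa [wp, gv, mul_assoc] using R.dA)
  · exact wp_com' _ hg _ _ (by decide) (by decide) (by simpa [wp, gv, mul_assoc] using R.dz)
  · simpa [wp, gv, mul_assoc] using R.ud
  · simpa [wp, gv, mul_assoc] using R.td
  · rw [wp_append, wp_append, wp_append, wp_com _ hg _ (by decide), wp_com _ hg _ (by decide),
      wp_com _ hg _ (by decide), mul_inv_eq_one]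
    simpa [wp, gv, mul_assoc] using R.cd
  · exact wp_rel' _ hg _ _ (by decide) (by simpa [wp, gv, mul_assoc] using R.Ac)
  · simpa [wp, gv, mul_assoc] using R.uc

theorem Rels.z_S (R : Rels A S u d) : S * (u * A * u) = u * A * u * S := by
  calc S * (u * A * u) = (u * u) * S * u * A * u := by rw [R.u2]; group
    _ = u * (u * S * u * A) * u := by group
    _ = u * (A * (u * S * u)) * u := by rw [R.AuS]
    _ = u * A * u * S * (u * u) := by group
    _ = u * A * u * S := by rw [R.u2, mul_one]

theorem Rels.z3 (R : Rels A S u d) : u * A * u * (u * A * u) * (u * A * u) = 1 := by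
  calc u * A * u * (u * A * u) * (u * A * u) = u * A * (u * u) * A * (u * u) * A * u := by group
    _ = u * (A * A * A) * u := by rw [R.u2]; group
    _ = 1 := by rw [R.A3, mul_one, R.u2]

theorem Rels.wp_two (R : Rels A S u d) : ∀ w ∈ relsTwo, wp (gv A S d (u * A * u)) w = 1 := by
  have hg := gv_ivl A S d (u * A * u)
  intro w hw
  simp only [relsTwo, List.mem_cons, List.not_mem_nil, or_false] at hw
  rcases hw with rfl | rfl | rfl | rfl | rfl | rfl | rfl | rfl | rfl | rfl | rfl
  · simpa [wp, gv, mul_assoc] using R.A3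
  · simpa [wp, gv, mul_assoc] using R.S4
  · simpa [wp, gv, mul_assoc] using R.d3
  · simpa [wp, gv, mul_assoc] using R.z3
  · exact wp_com' _ hg _ _ (by decide) (by decide) (by simpa [wp, gv, mul_assoc] using R.dA)
  · exact wp_com' _ hg _ _ (by decide) (by decide) (by simpa [wp, gv, mul_assoc] using R.dz)
  · exact wp_com' _ hg _ _ (by decide) (by decide) (by simpa [wp, gv, mul_assoc] using R.AA)
  · exact wp_com' _ hg _ _ (by decide) (by decide) (by simpa [wp, gv, mul_assoc] using R.z_S)
  · simpa [wp, gv, mul_assoc] using R.td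
  · rw [wp_append, wp_append, wp_append, wp_com _ hg _ (by decide), wp_com _ hg _ (by decide),
      wp_com _ hg _ (by decide), mul_inv_eq_one]
    simpa [wp, gv, mul_assoc] using R.cd
  · exact wp_rel' _ hg _ _ (by decide) (by simpa [wp, gv, mul_assoc] using R.Ac)

theorem Rels.wp_three (R : Rels A S u d) : ∀ w ∈ relsThree, wp (gv A S A S) w = 1 := by
  have hg := gv_ivl A S A S
  intro w hw
  simp only [relsThree, List.mem_cons, List.not_mem_nil, or_false] at hw
  rcases hw with rfl | rfl | rfl | rfl | rfl | rfl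
  · simpa [wp, gv, mul_assoc] using R.A3
  · simpa [wp, gv, mul_assoc] using R.S4
  · exact wp_rel' _ hg _ _ (by decide) (by simpa [wp, gv, mul_assoc] using R.AS)
  · exact wp_com' _ hg _ _ (by decide) (by decide) (by simpa [wp, gv, mul_assoc] using R.SA)
  · simp [wp, gv]
  · simp [wp, gv]

theorem Rels.card_le [Finite G] (R : Rels A S u d) :
    Nat.card ↥(closure ({A, S, u, d} : Set G)) ≤ 25920 := by
  have h3 : Nat.card ↥(closure ({A, S, A, S} : Set G)) ≤ 24 := by
    have := Enum.card_le (a := A) (b := S) (c := A) (d := S) (n := 24) (H := (⊥ : Subgroup G)) (by norm_num)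
      (hs := []) (by simp) R.wp_three check_three
    simpa using this
  have h2 : Nat.card ↥(closure ({A, S, d, u * A * u} : Set G)) ≤ 27 * 24 := by
    refine (Enum.card_le (n := 27) (H := closure ({A, S, A, S} : Set G)) (by norm_num) ?_ R.wp_two check_two).trans
      (Nat.mul_le_mul_left _ h3)
    intro h hh
    simp only [List.mem_cons, List.not_mem_nil, or_false] at hh
    rcases hh with rfl | rfl <;> exact subset_closure (by simp [gv])
  refine (Enum.card_le (n := 40) (H := closure ({A, S, d, u * A * u} : Set G)) (by norm_num) ?_ R.wp_one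
    check_one).trans (Nat.mul_le_mul_left _ h2)
  intro h hh
  simp only [List.mem_cons, List.not_mem_nil, or_false] at hh
  rcases hh with rfl | rfl | rfl <;> exact subset_closure (by simp [gv])

end Cfsg.Agent.PSpAmalgam
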