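import Mathlib

/-!
# Small coset enumerations without coincidences

Cosets carry representative words forming a tree; each further edge of the coset table follows from
one relator all of whose other edges are already known.
-/

set_option autoImplicit false

namespace Cfsg.Agent.PSpAmalgam.Enum

open Subgroup

/-- The inverse of a letter (letters `x` and `x + 4` are mutually inverse). -/
def ivl (x : ℕ) : ℕ := (x + 4) % 8

/-- The inverse of a word. -/
def rw' (w : List ℕ) : List ℕ := (w.reverse).map ivl

/-- The commutator word. -/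
def com (a b : List ℕ) : List ℕ := a ++ b ++ rw' a ++ rw' b

/-- Membership for lists of numbers. -/
def memN (a : ℕ) : List ℕ → Bool
  | [] => false
  | b :: l => Nat.beq a b || memN a l

/-- The code of an edge. -/
def code (i x j : ℕ) : ℕ := (i * 8 + x) * 64 + j

/-- An edge is known in one of its two directions. -/
def hasEdge (K : List ℕ) (i x j : ℕ) : Bool :=
  Nat.blt i 64 && Nat.blt j 64 && Nat.blt x 8 && (memN (code i x j) K || memN (code j (ivl x) i) K)

/-- Follow a word along known edges. -/
def walk (K : List ℕ) : ℕ → List ℕ → List ℕ → ℕ → Bool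
  | cur, [], [], fin => Nat.beq cur fin
  | cur, x :: w, j :: p, fin => hasEdge K cur x j && walk K j w p fin
  | _, _, _, _ => false

/-- A deduction: relator, rotation, the cosets along the rest of the relator, and the new edge. -/
structure Step where
  rel : ℕ
  rot : ℕ
  path : List ℕ
  src : ℕ
  letter : ℕ
  tgt : ℕ

/-- Check one deduction. -/
def stepOK (R : List (List ℕ)) (K : List ℕ) (s : Step) : Bool :=
  match (R.getD s.rel []).drop s.rot ++ (R.getD s.rel []).take s.rot with
  | [] => false
  | x :: rest => Nat.beq x s.letter && Nat.blt s.src 64 && Nat.blt s.tgt 64 && Nat.blt x 8 &&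
      walk K s.tgt rest s.path s.src

/-- Check all deductions, accumulating the edges. -/
def run (R : List (List ℕ)) : List Step → List ℕ → Option (List ℕ)
  | [], K => some K
  | s :: l, K => if stepOK R K s then run R l (code s.src s.letter s.tgt :: K) else none

/-- The edges of the tree of representatives are consistent. -/
def treeOK (W : List (List ℕ)) (defs : List (ℕ × ℕ × ℕ)) : Bool :=
  defs.all fun e => Nat.blt e.1 64 && Nat.blt e.2.1 8 && Nat.blt e.2.2 64 &&
    decide (W.getD e.1 [] ++ [e.2.1] = W.getD e.2.2 [])

/-- The seeds: letters fixing the base coset. -/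
def seedCodes (hs : List ℕ) : List ℕ := hs.map fun h => code 0 h 0

/-- The whole check: the table is complete. -/
def check (R W : List (List ℕ)) (hs : List ℕ) (defs : List (ℕ × ℕ × ℕ)) (steps : List Step) (n : ℕ) : Bool :=
  treeOK W defs && decide (W.getD 0 [] = []) && hs.all (fun h => Nat.blt h 8) &&
  match run R steps (seedCodes hs ++ defs.map fun e => code e.1 e.2.1 e.2.2) with
  | none => false
  | some K => (List.range n).all fun i => (List.range 4).all fun x =>
      (List.range n).any fun j => hasEdge K i x j

variable {G : Type*} [Group G]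

/-- The values of the letters. -/
def gv (a b c d : G) : ℕ → G
  | 0 => a | 1 => b | 2 => c | 3 => d | 4 => a⁻¹ | 5 => b⁻¹ | 6 => c⁻¹ | 7 => d⁻¹ | _ => 1

/-- The value of a word. -/
def wp (g : ℕ → G) : List ℕ → G
  | [] => 1
  | x :: w => g x * wp g w

theorem wp_append (g : ℕ → G) : ∀ u v : List ℕ, wp g (u ++ v) = wp g u * wp g v
  | [], v => by simp [wp]
  | x :: u, v => by simp [wp, wp_append g u v, mul_assoc]

theorem memN_iff (a : ℕ) : ∀ l : List ℕ, memN a l = true ↔ a ∈ l
  | [] => by simp [memN]
  | b :: l => by simp [memN, memN_iff a l]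

theorem gv_ivl (a b c d : G) : ∀ x < 8, gv a b c d (ivl x) = (gv a b c d x)⁻¹ := by
  intro x hx
  interval_cases x <;> simp [ivl, gv]

/-- The right coset of `src` followed by the letter is that of `tgt`. -/
def Sound (g : ℕ → G) (W : List (List ℕ)) (H : Subgroup G) (K : List ℕ) : Prop :=
  ∀ i x j, i < 64 → x < 8 → j < 64 → code i x j ∈ K →
    wp g (W.getD i []) * g x * (wp g (W.getD j []))⁻¹ ∈ H

variable {g : ℕ → G} {W : List (List ℕ)} {H : Subgroup G} {K : List ℕ}

theorem code_inj {i x j i' x' j' : ℕ} (hj : j < 64) (hx : x < 8) (hj' : j' < 64) (hx' : x' < 8)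
    (h : code i x j = code i' x' j') : i = i' ∧ x = x' ∧ j = j' := by
  simp only [code] at h
  omega

theorem hasEdge_sound (hg : ∀ x < 8, g (ivl x) = (g x)⁻¹) (hK : Sound g W H K) {i x j : ℕ}
    (h : hasEdge K i x j = true) : wp g (W.getD i []) * g x * (wp g (W.getD j []))⁻¹ ∈ H := by
  simp only [hasEdge, Bool.and_eq_true, Bool.or_eq_true, memN_iff, Nat.blt_eq] at h
  obtain ⟨⟨⟨hi, hj⟩, hx⟩, h | h⟩ := h
  · exact hK i x j hi hx hj h
  · have hx' : ivl x < 8 := by simp only [ivl]; omega
    have h' := inv_mem (hK j (ivl x) i hj hx' hi h)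
    rw [hg x hx] at h'
    convert h' using 1
    group

theorem walk_sound (hg : ∀ x < 8, g (ivl x) = (g x)⁻¹) (hK : Sound g W H K) :
    ∀ (w p : List ℕ) (cur fin : ℕ), walk K cur w p fin = true →
      wp g (W.getD cur []) * wp g w * (wp g (W.getD fin []))⁻¹ ∈ H
  | [], [], cur, fin, h => by
    simp only [walk] at h
    obtain rfl := Nat.eq_of_beq_eq_true h
    simp [wp]
  | [], _ :: _, cur, fin, h => by simp [walk] at h
  | _ :: _, [], cur, fin, h => by simp [walk] at h
  | x :: w, j :: p, cur, fin, h => by
    simp only [walk, Bool.and_eq_true] at h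
    have := mul_mem (hasEdge_sound hg hK h.1) (walk_sound hg hK w p j fin h.2)
    simp only [wp]
    convert this using 1
    group

theorem run_sound (hg : ∀ x < 8, g (ivl x) = (g x)⁻¹) {R : List (List ℕ)} (hR : ∀ w ∈ R, wp g w = 1) :
    ∀ (l : List Step) (K K' : List ℕ), Sound g W H K → run R l K = some K' → Sound g W H K'
  | [], K, K', hK, h => by simp only [run, Option.some.injEq] at h; exact h ▸ hK
  | s :: l, K, K', hK, h => by
    simp only [run] at h
    split at h
    next hs =>
      refine run_sound hg hR l _ K' ?_ h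
      intro i x j hi hx hj hmem
      rcases List.mem_cons.1 hmem with e | e
      · simp only [stepOK] at hs
        split at hs
        next => simp at hs
        next y rest hrot =>
          simp only [Bool.and_eq_true, Nat.blt_eq] at hs
          obtain ⟨⟨⟨⟨hbeq, hs1⟩, hs2⟩, hy⟩, hw⟩ := hs
          obtain rfl := Nat.eq_of_beq_eq_true hbeq
          obtain ⟨rfl, rfl, rfl⟩ := code_inj hj hx hs2 hy e
          have hwalk := walk_sound hg hK _ _ _ _ hw
          have hrel : wp g (R.getD s.rel []) = 1 := by
            rw [List.getD_eq_getElem?_getD]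
            cases hget : R[s.rel]? with
            | none => simp [wp]
            | some w => exact hR w (List.mem_of_getElem? hget)
          have h1 : g s.letter * wp g rest = 1 := by
            have hsplit := List.take_append_drop s.rot (R.getD s.rel [])
            rw [← hsplit, wp_append] at hrel
            have : wp g ((R.getD s.rel []).drop s.rot ++ (R.getD s.rel []).take s.rot) = 1 := by
              rw [wp_append, eq_inv_of_mul_eq_one_right hrel, inv_mul_cancel]
            rw [hrot] at this
            simpa [wp] using this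
          rw [eq_inv_of_mul_eq_one_right h1] at hwalk
          have := inv_mem hwalk
          convert this using 1
          group
      · exact hK i x j hi hx hj e
    next => simp at h

/-- A complete table bounds the group generated by the first four letters. -/
theorem card_le [Finite G] {a b c d : G} {R W : List (List ℕ)} {hs : List ℕ} {defs : List (ℕ × ℕ × ℕ)}
    {steps : List Step} {n : ℕ} (hn : 0 < n) {H : Subgroup G} (hH : ∀ h ∈ hs, gv a b c d h ∈ H)
    (hR : ∀ w ∈ R, wp (gv a b c d) w = 1) (hc : check R W hs defs steps n = true) :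
    Nat.card ↥(closure ({a, b, c, d} : Set G)) ≤ n * Nat.card H := by
  set g := gv a b c d with hgd
  have hg : ∀ x < 8, g (ivl x) = (g x)⁻¹ := gv_ivl a b c d
  simp only [check, Bool.and_eq_true, decide_eq_true_eq, List.all_eq_true] at hc
  obtain ⟨⟨⟨ht, h0⟩, hlt⟩, hrun⟩ := hc
  split at hrun
  next => simp at hrun
  next K hK =>
    have hinit : Sound g W H (seedCodes hs ++ defs.map fun e => code e.1 e.2.1 e.2.2) := by
      intro i x j hi hx hj hmem
      rcases List.mem_append.1 hmem with hm | hm
      · obtain ⟨h, hh, e⟩ := List.mem_map.1 hm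
        obtain ⟨rfl, rfl, rfl⟩ := code_inj (by norm_num) (Nat.blt_eq.mp (hlt h hh)) hj hx e
        rw [h0]
        simpa [wp] using hH h hh
      · obtain ⟨⟨i', x', j'⟩, he, e⟩ := List.mem_map.1 hm
        have := List.all_eq_true.1 ht _ he
        simp only [Bool.and_eq_true, Nat.blt_eq, decide_eq_true_eq] at this
        obtain ⟨⟨⟨hi', hx'⟩, hj'⟩, htree⟩ := this
        obtain ⟨rfl, rfl, rfl⟩ := code_inj hj' hx' hj hx e
        rw [← htree, wp_append]
        simp [wp]
    have hS := run_sound hg hR steps _ K hinit hK
    have hedge : ∀ i < n, ∀ x < 4, ∃ j < n, wp g (W.getD i []) * g x * (wp g (W.getD j []))⁻¹ ∈ H := by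
      intro i hi x hx
      have h1 := List.all_eq_true.1 hrun i (List.mem_range.2 hi)
      have h2 := List.all_eq_true.1 h1 x (List.mem_range.2 hx)
      obtain ⟨j, hj, h3⟩ := List.any_eq_true.1 h2
      exact ⟨j, List.mem_range.1 hj, hasEdge_sound hg hS h3⟩
    set U : Set G := {y | ∃ i < n, y * (wp g (W.getD i []))⁻¹ ∈ H} with hU
    have hgen : ∀ y ∈ closure ({a, b, c, d} : Set G), ∀ v ∈ U, v * y ∈ U := by
      intro y hy
      have hfin : ∀ y : G, (∀ v ∈ U, v * y ∈ U) → ∀ k : ℕ, ∀ v ∈ U, v * y ^ k ∈ U := by
        intro y hy k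
        induction k with
        | zero => simp
        | succ k ih => intro v hv; rw [pow_succ, ← mul_assoc]; exact hy _ (ih v hv)
      induction hy using closure_induction with
      | mem y hy =>
        intro v hv
        obtain ⟨i, hi, hv⟩ := hv
        obtain ⟨x, hx, rfl⟩ : ∃ x < 4, g x = y := by
          simp only [Set.mem_insert_iff, Set.mem_singleton_iff] at hy
          rcases hy with rfl | rfl | rfl | rfl
          exacts [⟨0, by norm_num, rfl⟩, ⟨1, by norm_num, rfl⟩, ⟨2, by norm_num, rfl⟩, ⟨3, by norm_num, rfl⟩]
        obtain ⟨j, hj, he⟩ := hedge i hi x hx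
        refine ⟨j, hj, ?_⟩
        convert mul_mem hv he using 1
        group
      | one => simp
      | mul y y' _ _ h1 h2 => intro v hv; rw [← mul_assoc]; exact h2 _ (h1 v hv)
      | inv y _ h1 =>
        have e : y⁻¹ = y ^ (orderOf y - 1) := by
          refine inv_eq_of_mul_eq_one_right ?_
          rw [← pow_succ', Nat.sub_add_cancel (orderOf_pos y), pow_orderOf_eq_one]
        rw [e]
        exact hfin y h1 _
    have hsub : ∀ y ∈ closure ({a, b, c, d} : Set G), y ∈ U := fun y hy => by
      simpa using hgen y hy 1 ⟨0, hn, by rw [h0]; simp [wp]⟩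
    let f : ↥H × Fin n → G := fun p => p.1 * wp g (W.getD p.2 [])
    calc Nat.card ↥(closure ({a, b, c, d} : Set G)) ≤ Nat.card (Set.range f) := by
          refine Nat.card_le_card_of_injective (fun y => ⟨y.1, ?_⟩) fun y y' h => ?_
          · obtain ⟨i, hi, h⟩ := hsub y.1 y.2
            exact ⟨(⟨_, h⟩, ⟨i, hi⟩), by simp [f]⟩
          · exact Subtype.ext (congrArg Subtype.val h :)
      _ ≤ Nat.card (↥H × Fin n) := Finite.card_range_le f
      _ = n * Nat.card H := by rw [Nat.card_prod, Nat.card_fin, mul_comm]

end Cfsg.Agent.PSpAmalgam.Enum
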