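import Cfsg.Agent.Lib.PSpAmalgam.Defs

/-!
# Relations for `PSp₄(3)` in four generators

`A, S` generate a copy of `SL₂(3)`, `u` exchanges it with the commuting copy, `z = u A u` and `d`
lies in the unipotent radical of the centralizer of `z`.
-/

set_option autoImplicit false

namespace Cfsg.Agent.PSpAmalgam

/-- Generators `A, S, u, d` with the defining relations. -/
structure Rels {G : Type*} [Group G] (A S u d : G) : Prop where
  A3 : A * A * A = 1
  S4 : S * S * (S * S) = 1
  AS : A * S * (A * S) * (A * S) = S * S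
  SA : S * S * A = A * (S * S)
  u2 : u * u = 1
  uS : u * (S * S) = S * S * u
  AA : A * (u * A * u) = u * A * u * A
  AuS : A * (u * S * u) = u * S * u * A
  SuS : S * (u * S * u) = u * S * u * S
  d3 : d * d * d = 1
  dA : d * A = A * d
  dz : d * (u * A * u) = u * A * u * d
  ud : u * d * u * d = 1
  td : S * S * d * (S * S) * d = 1
  cd : S * d * S⁻¹ * d * (S * d * S⁻¹)⁻¹ * d⁻¹ = u * A * u
  Ac : A * (S * d * S⁻¹) * A⁻¹ = S * d * S⁻¹ * d * (u * A * u)
  uc : u * (S * d * S⁻¹) * (u * (S * d * S⁻¹)) * (u * (S * d * S⁻¹)) = 1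

end Cfsg.Agent.PSpAmalgam
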