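import Cfsg.Agent.Lib.PSpAmalgam.Rels
import Cfsg.Agent.Lib.PSpAmalgam.Coords

/-!
# The relations of `PSp₄(3)` inside a frame

With `A = u z u = φ a`, a suitable `S = φ s` and `c = S d S⁻¹` the four elements `A, S, u, d` satisfy
`Rels`, and they generate both local subgroups.
-/

set_option autoImplicit false
set_option maxRecDepth 20000
set_option linter.style.haveILetI false
set_option linter.unusedSectionVars false

namespace Cfsg.Agent.PSpAmalgam

open Subgroup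

private theorem sl_partner : ∀ a : SL3, a * a * a = 1 → a ≠ 1 →
    ∃ s : SL3, s * s = negOne ∧ a * s * (a * s) * (a * s) = negOne := by decide +kernel

private theorem sl_words : ∀ a s : SL3, a * a * a = 1 → a ≠ 1 → s * s = negOne →
    a * s * (a * s) * (a * s) = negOne → ∀ g : SL3, ∃ j : Fin 4, ∃ i : Fin 3, ∃ l : Fin 2, ∃ k : Fin 3,
      g = s ^ (j : ℕ) * a ^ (i : ℕ) * s ^ (l : ℕ) * a ^ (k : ℕ) := by decide +kernel

private theorem vec_facts :
    ((1, 2, 0) : Vec) + (0, 0, 1) ≠ (1, 1, 0) ∧ ((1, 2, 0) : Vec) + (0, 0, 1) ≠ (1, 2, 0) ∧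
    ((1, 2, 0) : Vec) + (0, 0, 1) ≠ (2, 0, 1) ∧ ((1, 2, 0) : Vec) + (0, 0, 1) ≠ (2, 0, 2) ∧
    ((1, 2, 0) : Vec) + (0, 0, 1) + (2, 2, 0) ≠ (1, 1, 0) ∧
    ((1, 2, 0) : Vec) + (0, 0, 1) + (2, 2, 0) ≠ (1, 2, 0) ∧
    ((1, 2, 0) : Vec) + (0, 0, 1) + (2, 2, 0) ≠ (2, 0, 1) ∧
    ((1, 2, 0) : Vec) + (0, 0, 1) + (2, 2, 0) ≠ (2, 0, 2) := by decide

variable {G : Type*} [Group G] [Finite G] {A₁ A₂ Q₁ Q₂ : Subgroup G} {z t u e f d : G}

theorem Frame.toDiag (D : Frame A₁ A₂ Q₁ Q₂ z t u e f d) : Diag A₁ A₂ Q₁ Q₂ z t u e f d := by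
  have himg : ∀ π : ↥A₂ →* SL3, Function.Surjective π → (∀ a : ↥A₂, π a = 1 ↔ (a : G) ∈ Q₂) →
      ∀ h : t ∈ A₂, π ⟨t, h⟩ = negOne := by
    intro π _ hπ h
    have hsq : π ⟨t, h⟩ * π ⟨t, h⟩ = 1 := by
      rw [← map_mul, show (⟨t, h⟩ * ⟨t, h⟩ : ↥A₂) = 1 from Subtype.ext D.t2, map_one]
    refine (sl_involution _ hsq).resolve_left fun e' => D.t_ne ?_
    have h27 : (⟨t, (hπ _).1 e'⟩ : ↥Q₂) ^ 27 = 1 := by rw [← D.card_Q₂]; exact pow_card_eq_one'
    have h27' : t ^ 27 = 1 := by simpa using congrArg Subtype.val h27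
    rwa [show 27 = 2 * 13 + 1 from rfl, pow_succ, pow_mul, pow_two, D.t2, one_pow, one_mul] at h27'
  have hd2 : d ∈ Q₂ := by
    obtain ⟨π, hπs, hπ⟩ := D.quot₂
    have hdA : d ∈ A₂ := D.toAmalgam.le₁₂ D.d_mem
    refine (hπ ⟨d, hdA⟩).1 ?_
    have ht := himg π hπs hπ D.t_mem₂
    have h1 : π ⟨t, D.t_mem₂⟩ * π ⟨d, hdA⟩ * π ⟨t, D.t_mem₂⟩ = (π ⟨d, hdA⟩)⁻¹ := by
      rw [← map_mul, ← map_mul, ← map_inv]
      exact congrArg π (Subtype.ext D.td)
    rw [ht, ← negOne_comm, mul_assoc, negOne_sq, mul_one] at h1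
    have h2 : π ⟨d, hdA⟩ * π ⟨d, hdA⟩ = 1 := mul_eq_one_iff_eq_inv.2 h1
    have h3 : π ⟨d, hdA⟩ ^ 3 = 1 := by
      rw [← map_pow, show (⟨d, hdA⟩ : ↥A₂) ^ 3 = 1 from Subtype.ext (by simpa using D.exp₁ d D.d_mem), map_one]
    rwa [pow_three, h2, mul_one] at h3
  exact
    { toAmalgam := D.toAmalgam, t_mem₁ := D.t_mem₁, t_mem₂ := D.t_mem₂, t_ne := D.t_ne, t2 := D.t2,
      t_inv := D.t_inv, t_img := himg, u_mem := D.u_mem, u2 := D.u2, tu := D.tu, e_mem := D.e_mem,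
      f_mem := D.f_mem, d_mem := D.d_mem, d_mem₂ := hd2, e_ne := D.e_ne, f_ne := D.f_ne, d_ne := D.d_ne,
      z_eq := D.z_eq, te := D.te, tf := D.tf, td := D.td, ue := D.ue, uf := D.uf, ud := D.ud }

/-- **The generators and relations inside a frame.** -/
theorem Frame.exists_rels (D : Frame A₁ A₂ Q₁ Q₂ z t u e f d) (φ : SL3 →* G) (hinj : Function.Injective φ)
    (hneg : φ negOne = t) (hz : ∀ a, φ a * z = z * φ a) (ht : ∀ a, φ a * t = t * φ a)
    (hw : e * f⁻¹ ∈ φ.range) (hcomm : ∀ a b, φ a * (u * φ b * u) = u * φ b * u * φ a) :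
    ∃ A S : G, Rels A S u d ∧ A₁ ⊔ A₂ ≤ closure ({A, S, u, d} : Set G) := by
  have Dg := D.toDiag
  obtain ⟨A, hA⟩ : ∃ A, A = e * f⁻¹ := ⟨_, rfl⟩
  rw [← hA] at hw
  obtain ⟨a, ha⟩ := hw
  have hAQ : A ∈ Q₁ := hA ▸ mul_mem D.e_mem (inv_mem D.f_mem)
  have hdQ := D.d_mem
  have hzQ := D.z_mem₁
  have cA : ∀ {x}, x ∈ Q₁ → Commute A x := fun hx => D.comm₁ A hAQ _ hx
  have cd : ∀ {x}, x ∈ Q₁ → Commute d x := fun hx => D.comm₁ d hdQ _ hx
  have cz : ∀ {x}, x ∈ Q₁ → Commute z x := fun hx => D.comm₁ z hzQ _ hx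
  have chiA : chi e f d (1, 2, 0) = A := Dg.chi_z'.trans hA.symm
  have hA1 : A ≠ 1 := fun h => by
    have := Dg.chi_inj ((chiA.trans h).trans (Diag.chi_zero (e := e) (f := f) (d := d)).symm)
    exact absurd this (by decide)
  have hA3 : A ^ 3 = 1 := D.exp₁ A hAQ
  have ha3 : a * a * a = 1 := hinj (by
    rw [map_one, map_mul, map_mul, ha, ← pow_two, ← pow_succ, hA3])
  have ha1 : a ≠ 1 := fun h => hA1 (by rw [← ha, h, map_one])
  obtain ⟨s, hs2, has⟩ := sl_partner a ha3 ha1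
  set S := φ s with hS
  have hS2 : S * S = t := by rw [hS, ← map_mul, hs2, hneg]
  have hS4 : S * S * (S * S) = 1 := by rw [hS2, D.t2]
  have hAS : A * S * (A * S) * (A * S) = t := by
    rw [← ha, hS, ← map_mul, ← map_mul, ← map_mul, has, hneg]
  have hti : t⁻¹ = t := inv_eq_of_mul_eq_one_right D.t2
  have hui : u⁻¹ = u := inv_eq_of_mul_eq_one_right D.u2
  have hd3 : d ^ 3 = 1 := D.exp₁ d hdQ
  have hdne : d ≠ d⁻¹ := fun h => D.d_ne (by
    have h2 : d * d = 1 := mul_eq_one_iff_eq_inv.2 h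
    rwa [pow_three, h2, mul_one] at hd3)
  have hz3 : z ^ 3 = 1 := D.exp₁ z hzQ
  have huzu : u * z * u = A := by
    rw [← Dg.chi_z, Dg.chi_u, ← chiA]
    exact congrArg (chi e f d) (by decide)
  have huAu : u * A * u = z := by
    rw [← huzu, show u * (u * z * u) * u = (u * u) * z * (u * u) by simp [mul_assoc], D.u2, one_mul, mul_one]
  have hSz : Commute S z := hz s
  have hSt : Commute S t := ht s
  obtain ⟨c, hc⟩ : ∃ c, c = S * d * S⁻¹ := ⟨_, rfl⟩
  have hSA₂ : S ∈ A₂ := D.cent_z ▸ mem_centralizer_singleton_iff.2 hSz.eq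
  have hcQ : c ∈ Q₂ := hc ▸ (mem_normalizer_iff.1 (D.norm₂ hSA₂) d).1 Dg.d_mem₂
  have hcA₁ : c ∈ A₁ := D.toAmalgam.le₂₁ hcQ
  have cz' : Commute z c := (D.toAmalgam.z_comm (D.le₂ hcQ)).symm
  have htc : t * c * t = c⁻¹ := by
    rw [hc]
    calc t * (S * d * S⁻¹) * t = (t * S) * d * (S⁻¹ * t) := by simp [mul_assoc]
      _ = S * (t * d * t) * S⁻¹ := by rw [← hSt.eq, hSt.inv_left.eq]; simp [mul_assoc]
      _ = _ := by rw [D.td]; group
  have hSc : S * c * S⁻¹ = d⁻¹ := by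
    rw [hc]
    calc S * (S * d * S⁻¹) * S⁻¹ = (S * S) * d * (S * S)⁻¹ := by group
      _ = t * d * t := by rw [hS2, hti]
      _ = d⁻¹ := D.td
  -- the commutators
  have hz_cases : ∀ x ∈ zpowers z, x = 1 ∨ x = z ∨ x = z * z := by
    intro x hx
    obtain ⟨n, hn⟩ := (mem_powers_iff_mem_zpowers.2 hx : x ∈ Submonoid.powers z)
    simp only at hn
    rw [← hn, pow_eq_pow_mod n hz3]
    rcases (by omega : n % 3 = 0 ∨ n % 3 = 1 ∨ n % 3 = 2) with h | h | h <;> simp [h, pow_two]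
  have hcd : c * d * c⁻¹ * d⁻¹ ∈ zpowers z := D.comm₂ c hcQ d Dg.d_mem₂
  have hAc_mem : A * c * A⁻¹ * c⁻¹ ∈ Q₁ ⊓ Q₂ := by
    refine ⟨?_, ?_⟩
    · show A * c * A⁻¹ * c⁻¹ ∈ Q₁
      have h := (mem_normalizer_iff.1 (D.norm₁.symm ▸ hcA₁ : c ∈ normalizer (Q₁ : Set G)) A⁻¹).1 (inv_mem hAQ)
      have := mul_mem hAQ h
      simpa [mul_assoc] using this
    · show A * c * A⁻¹ * c⁻¹ ∈ Q₂
      exact mul_mem ((mem_normalizer_iff.1 (D.norm₂ (D.toAmalgam.le₁₂ hAQ)) c).1 hcQ) (inv_mem hcQ)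
  -- `Q₁ ∩ Q₂ = ⟨z, d⟩`
  have hinf : Q₁ ⊓ Q₂ ≤ closure ({z, d} : Set G) ∧
      ∀ x ∈ Q₁ ⊓ Q₂, ∃ i k : Fin 3, x = d ^ (i : ℕ) * z ^ (k : ℕ) := by
    let g : Fin 3 × Fin 3 → ↥(Q₁ ⊓ Q₂) := fun p => ⟨d ^ (p.1 : ℕ) * z ^ (p.2 : ℕ),
      mul_mem (pow_mem (show d ∈ Q₁ ⊓ Q₂ from ⟨hdQ, Dg.d_mem₂⟩) _)
        (pow_mem (show z ∈ Q₁ ⊓ Q₂ from ⟨hzQ, D.z_mem₂⟩) _)⟩
    have hg : Function.Injective g := by
      rintro ⟨i, k⟩ ⟨i', k'⟩ h
      have h0 : d ^ (i : ℕ) * z ^ (k : ℕ) = d ^ (i' : ℕ) * z ^ (k' : ℕ) := congrArg Subtype.val h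
      have ev : ∀ i k : Fin 3, d ^ (i : ℕ) * z ^ (k : ℕ) = chi e f d ((k.val : ZMod 3), (k.val : ZMod 3), (i.val : ZMod 3)) := by
        intro i k
        simp only [chi, ZMod.val_natCast]
        rw [Nat.mod_eq_of_lt i.isLt, Nat.mod_eq_of_lt k.isLt, (cd (pow_mem hzQ _)).pow_left, D.z_eq,
          (show Commute e f from D.comm₁ e D.e_mem f D.f_mem).mul_pow]
      rw [ev, ev] at h0
      have h1 := Dg.chi_inj h0
      revert h1; clear * -; revert i k i' k'; decide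
    have hb : Function.Bijective g := (Nat.bijective_iff_injective_and_card g).2 ⟨hg, by
      rw [D.toAmalgam.card_inf]; simp⟩
    have hall : ∀ x ∈ Q₁ ⊓ Q₂, ∃ i k : Fin 3, x = d ^ (i : ℕ) * z ^ (k : ℕ) := fun x hx => by
      obtain ⟨⟨i, k⟩, h⟩ := hb.2 ⟨x, hx⟩
      exact ⟨i, k, (congrArg Subtype.val h).symm⟩
    refine ⟨fun x hx => ?_, hall⟩
    obtain ⟨i, k, rfl⟩ := hall x hx
    exact mul_mem (pow_mem (subset_closure (by simp)) _) (pow_mem (subset_closure (by simp)) _)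
  obtain ⟨i, k, hik⟩ := hinf.2 _ hAc_mem
  have hy : A * c * A⁻¹ = d ^ (i : ℕ) * z ^ (k : ℕ) * c := by rw [← hik]; group
  -- conjugation by `A * S`
  obtain ⟨M, hM⟩ : ∃ M : G →* G, ∀ x, M x = A * S * x * (A * S)⁻¹ :=
    ⟨(MulAut.conj (A * S)).toMonoidHom, fun x => rfl⟩
  have hM3 : M (M (M d)) = d⁻¹ := by
    rw [hM, hM, hM]
    calc A * S * (A * S * (A * S * d * (A * S)⁻¹) * (A * S)⁻¹) * (A * S)⁻¹
        = (A * S * (A * S) * (A * S)) * d * (A * S * (A * S) * (A * S))⁻¹ := by group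
      _ = t * d * t := by rw [hAS, hti]
      _ = d⁻¹ := D.td
  have hM' : ∀ x, M x = A * (S * x * S⁻¹) * A⁻¹ := fun x => by rw [hM]; group
  have hMd : M d = d ^ (i : ℕ) * z ^ (k : ℕ) * c := by rw [hM', ← hc, hy]
  have hMc : M c = d⁻¹ := by
    rw [hM', hSc, (cA (inv_mem hdQ)).eq, mul_inv_cancel_right]
  have hMz : M z = z := by
    rw [hM', hSz.eq, mul_inv_cancel_right, (cA hzQ).eq, mul_inv_cancel_right]
  have hi : (i : ℕ) = 1 := by
    rcases (by omega : (i : ℕ) = 0 ∨ (i : ℕ) = 1 ∨ (i : ℕ) = 2) with h | h | h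
    · exfalso
      have hMd0 : M d = z ^ (k : ℕ) * c := by rw [hMd, h, pow_zero, one_mul]
      have e0 : M (M d) = z ^ (k : ℕ) * d⁻¹ := by rw [hMd0, map_mul, map_pow, hMz, hMc]
      rw [e0, map_mul, map_pow, hMz, map_inv, hMd0, mul_inv_rev, ← mul_assoc, (cz'.inv_right.pow_left _).eq,
        mul_inv_cancel_right] at hM3
      have e2 : c = d := inv_injective hM3
      rw [e2] at hSc
      exact hdne ((hc.symm.trans e2).symm.trans hSc)
    · exact h
    · exfalso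
      have e2 : M (M d) = c⁻¹ := by
        rw [hMd, map_mul, map_mul, map_pow, map_pow, hMd, hMz, hMc, h]
        have q1 : Commute z d := cz hdQ
        calc (d ^ 2 * z ^ (k : ℕ) * c) ^ 2 * z ^ (k : ℕ) * d⁻¹
            = (d ^ 2 * z ^ (k : ℕ) * c) ^ 2 * d⁻¹ * z ^ (k : ℕ) := by
              rw [mul_assoc, (q1.pow_left _).inv_right.eq, ← mul_assoc]
          _ = (A * c * A⁻¹) ^ 2 * d⁻¹ * z ^ (k : ℕ) := by rw [hy, h]
          _ = A * c ^ 2 * A⁻¹ * d⁻¹ * z ^ (k : ℕ) := by rw [conj_pow]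
          _ = (A * c * A⁻¹)⁻¹ * d⁻¹ * z ^ (k : ℕ) := by
              have c3 : c ^ 3 = 1 := by rw [hc, conj_pow, hd3]; group
              rw [show c ^ 2 = c⁻¹ from eq_inv_of_mul_eq_one_left (by rw [← pow_succ, c3])]
              group
          _ = c⁻¹ * (z ^ (k : ℕ))⁻¹ * (d ^ 3)⁻¹ * z ^ (k : ℕ) := by rw [hy, h]; group
          _ = c⁻¹ := by rw [hd3]; group
      rw [e2, map_inv, hMc, inv_inv] at hM3
      exact hdne hM3
  rw [hi, pow_one] at hy
  -- `[c, d]`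
  obtain ⟨β, hβ, hβ'⟩ : ∃ β, (β = 1 ∨ β = z ∨ β = z * z) ∧ c * d * c⁻¹ * d⁻¹ = β :=
    ⟨_, hz_cases _ hcd, rfl⟩
  have hβz : β ∈ zpowers z := hβ' ▸ hcd
  have cβ : ∀ {x}, x ∈ A₂ → Commute β x := fun hx => (D.toAmalgam.z_central hx hβz).symm
  have hcd' : c * d = β * d * c := by rw [← hβ']; group
  -- the exponent of `z` is forced by `t`
  have hy' : A * c * A⁻¹ = c * d * β := by
    have hzk : z ^ (k : ℕ) ∈ zpowers z := pow_mem (mem_zpowers z) _
    set m := β⁻¹ * z ^ (k : ℕ) with hm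
    have hmz : m ∈ zpowers z := mul_mem (inv_mem hβz) hzk
    have cm : ∀ {x}, x ∈ A₂ → Commute m x := fun hx => (D.toAmalgam.z_central hx hmz).symm
    have hcA₂ := D.le₂ hcQ
    have hdA₂ := D.toAmalgam.le₁₂ hdQ
    have e1 : A * c * A⁻¹ = c * d * m := by
      rw [hy, ← (cm (mul_mem hcA₂ hdA₂)).eq, hcd', hm]
      calc d * z ^ (k : ℕ) * c = z ^ (k : ℕ) * d * c := by rw [((cz hdQ).pow_left _).eq]
        _ = β⁻¹ * (β * z ^ (k : ℕ)) * d * c := by group
        _ = β⁻¹ * (z ^ (k : ℕ) * β) * d * c := by rw [(cβ (pow_mem (D.le₂ D.z_mem₂) _)).eq]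
        _ = _ := by group
    have e2 : t * (c * d * m) * t = (c * d * m)⁻¹ := by
      have htA : Commute A t := by rw [← ha]; exact ht a
      rw [← e1]
      calc t * (A * c * A⁻¹) * t = (t * A) * c * (A⁻¹ * t) := by simp [mul_assoc]
        _ = A * (t * c * t) * A⁻¹ := by rw [← htA.eq, htA.inv_left.eq]; simp [mul_assoc]
        _ = _ := by rw [htc]; group
    have htm : t * m * t = m := by
      have h := D.toAmalgam.z_conj D.t_mem₂ hmz
      rwa [hti] at h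
    have e3 : t * (c * d * m) * t = c⁻¹ * d⁻¹ * m := by
      calc t * (c * d * m) * t = (t * c * t) * (t⁻¹ * d * t⁻¹) * (t * m * t⁻¹) * (t * t) := by group
        _ = _ := by rw [htc, hti, D.td, htm, D.t2, mul_one]
    have e4 : m * m = β⁻¹ := by
      have h5 : c⁻¹ * d⁻¹ = (c * d)⁻¹ * β := by rw [hcd']; group
      have h6 : (c * d)⁻¹ * (β * m) = (c * d)⁻¹ * m⁻¹ := by
        calc (c * d)⁻¹ * (β * m) = c⁻¹ * d⁻¹ * m := by rw [h5, mul_assoc]
          _ = (c * d * m)⁻¹ := e3.symm.trans e2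
          _ = (m * (c * d))⁻¹ := by rw [(cm (mul_mem hcA₂ hdA₂)).eq]
          _ = (c * d)⁻¹ * m⁻¹ := mul_inv_rev _ _
      have h' := mul_left_cancel h6
      rw [eq_inv_iff_mul_eq_one]
      calc m * m * β = m * (β * m) := by rw [mul_assoc, (cβ (D.le₂ (D.toAmalgam.z_le hmz).2)).eq]
        _ = 1 := by rw [h', mul_inv_cancel]
    have hmβ : m = β := by
      have hm3 : m ^ 3 = 1 := D.exp₁ m (D.toAmalgam.z_le hmz).1
      calc m = m ^ 3 * (m * m)⁻¹ := by group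
        _ = β := by rw [hm3, e4]; group
    rw [e1, hmβ]
  -- the orbit of `z` forces `β = z`
  have hconjA : c⁻¹ * A * c = d * β * A := by
    calc c⁻¹ * A * c = c⁻¹ * (A * c * A⁻¹) * A := by group
      _ = d * β * A := by rw [hy']; group
  have horb : c⁻¹ * u ∈ A₁ := mul_mem (inv_mem hcA₁) D.u_mem
  have horb' := D.orbit _ horb
  rw [show c⁻¹ * u * z * (c⁻¹ * u)⁻¹ = c⁻¹ * (u * z * u) * c by rw [mul_inv_rev, inv_inv, hui]; simp [mul_assoc],
    huzu, hconjA] at horb'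
  rw [← Dg.chi_z', ← Dg.chi_three, ← Dg.chi_four, ← D.z_eq, ← Dg.chi_z] at horb'
  obtain ⟨v1, v2, v3, v4, w1, w2, w3, w4⟩ := vec_facts
  have hβ1 : β = z := by
    rcases hβ with h | h | h
    · exfalso
      have hv : d * β * A = chi e f d ((1, 2, 0) + (0, 0, 1)) := by
        rw [Dg.chi_add, Dg.chi_d, chiA, h, mul_one, (cd hAQ).eq]
      rw [hv] at horb'
      rcases horb' with h' | h' | h' | h'
      exacts [v1 (Dg.chi_inj h'), v2 (Dg.chi_inj h'), v3 (Dg.chi_inj h'), v4 (Dg.chi_inj h')]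
    · exact h
    · exfalso
      have hv : d * β * A = chi e f d ((1, 2, 0) + (0, 0, 1) + (2, 2, 0)) := by
        rw [show ((2, 2, 0) : Vec) = (1, 1, 0) + (1, 1, 0) by decide, Dg.chi_add, Dg.chi_add, Dg.chi_add,
          Dg.chi_d, chiA, Dg.chi_z, h, ← (cA (mul_mem hdQ (mul_mem hzQ hzQ))).eq, mul_assoc]
      rw [hv] at horb'
      rcases horb' with h' | h' | h' | h'
      exacts [w1 (Dg.chi_inj h'), w2 (Dg.chi_inj h'), w3 (Dg.chi_inj h'), w4 (Dg.chi_inj h')]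
  subst hβ1
  -- the element `u * c` permutes `z`, `A`, `z d A` cyclically
  have hcAc : c * A * c⁻¹ = A * d⁻¹ * β := by
    have h1 : A = c * (d * β * A) * c⁻¹ := by rw [← hconjA]; group
    have h2 : c * (d * β * A) * c⁻¹ = (c * d * c⁻¹) * (c * β * c⁻¹) * (c * A * c⁻¹) := by group
    have h3 : c * d * c⁻¹ = β * d := by rw [hcd']; group
    rw [h2, h3, ← cz'.eq, mul_inv_cancel_right] at h1
    calc c * A * c⁻¹ = (β * d * β)⁻¹ * (β * d * β * (c * A * c⁻¹)) := by group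
      _ = (β * d * β)⁻¹ * A := by rw [← h1]
      _ = A * (β * d * β)⁻¹ := ((cA (inv_mem (mul_mem (mul_mem hzQ hdQ) hzQ))).eq).symm
      _ = A * d⁻¹ * (β ^ 3 * (β * β)⁻¹) := by
          rw [mul_assoc β d β, (cd hzQ).eq, hz3]; group
      _ = A * d⁻¹ * β := by
          rw [show β ^ 3 * (β * β)⁻¹ = β by group]
  obtain ⟨w, hwd⟩ : ∃ w, w = u * c := ⟨_, rfl⟩
  have hwA₁ : w ∈ A₁ := hwd ▸ mul_mem D.u_mem hcA₁
  have hw1 : MulAut.conj w β = A := by
    rw [hwd, MulAut.conj_apply, mul_inv_rev, hui]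
    calc u * c * β * (c⁻¹ * u) = u * (c * β * c⁻¹) * u := by simp [mul_assoc]
      _ = A := by rw [← cz'.eq, mul_inv_cancel_right, huzu]
  have hwd' : MulAut.conj w d = A * d⁻¹ := by
    rw [hwd, MulAut.conj_apply, mul_inv_rev, hui]
    calc u * c * d * (c⁻¹ * u) = u * (c * d * c⁻¹) * u := by simp [mul_assoc]
      _ = u * (β * d) * u := by rw [hcd']; simp [mul_assoc]
      _ = (u * β * u) * (u * d * u) := conj_inv_mul D.u2 _ _
      _ = _ := by rw [huzu, D.ud]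
  have hw2 : MulAut.conj w A = β * d * A := by
    rw [hwd, MulAut.conj_apply, mul_inv_rev, hui]
    calc u * c * A * (c⁻¹ * u) = u * (c * A * c⁻¹) * u := by simp [mul_assoc]
      _ = u * (A * d⁻¹ * β) * u := by rw [hcAc]
      _ = (u * A * u) * (u * d * u)⁻¹ * (u * β * u) := by
          rw [conj_inv_mul D.u2, conj_inv_mul D.u2, conj_inv_inv D.u2]
      _ = _ := by rw [huAu, huzu, D.ud, inv_inv]
  have hw3 : MulAut.conj w (β * d * A) = β := by
    rw [map_mul, map_mul, hw1, hw2, hwd']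
    calc A * (A * d⁻¹) * (β * d * A) = A * A * (d⁻¹ * β) * (d * A) := by simp [mul_assoc]
      _ = A * A * (β * d⁻¹) * (d * A) := by rw [((cd hzQ).inv_left).eq]
      _ = A * A * (β * A) := by group
      _ = A ^ 3 * β := by rw [← (cA hzQ).eq]; simp [pow_succ, mul_assoc]
      _ = β := by rw [hA3, one_mul]
  obtain ⟨X, hX⟩ : ∃ X, X = w * w * w := ⟨_, rfl⟩
  have hconjX : ∀ x : G, MulAut.conj X x = MulAut.conj w (MulAut.conj w (MulAut.conj w x)) := fun x => by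
    rw [hX, map_mul, map_mul]; rfl
  have hXz : MulAut.conj X β = β := by rw [hconjX, hw1, hw2, hw3]
  have hXA : MulAut.conj X A = A := by rw [hconjX, hw2, hw3, hw1]
  have hXP : MulAut.conj X (β * d * A) = β * d * A := by rw [hconjX, hw3, hw1, hw2]
  have hXd : MulAut.conj X d = d := by
    have : d = β⁻¹ * (β * d * A) * A⁻¹ := by group
    conv_lhs => rw [this, map_mul, map_mul, map_inv, map_inv, hXz, hXP, hXA]
    exact this.symm
  have hgenQ : ∀ x ∈ Q₁, ∃ i j k : ℕ, x = β ^ i * A ^ j * d ^ k := by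
    intro x hx
    obtain ⟨v, rfl⟩ := Dg.exists_chi hx
    have hsplit : ∀ v : Vec, ∃ i j k : ZMod 3, v = (i, i, 0) + (j, 2 * j, 0) + (0, 0, k) := by decide
    obtain ⟨i, j, k, hv⟩ := hsplit v
    have e1 : ∀ i : ZMod 3, chi e f d (i, i, 0) = β ^ i.val := fun i => by
      rw [D.z_eq, (show Commute e f from D.comm₁ e D.e_mem f D.f_mem).mul_pow]; simp [chi]
    have e2 : ∀ j : ZMod 3, chi e f d (j, 2 * j, 0) = A ^ j.val := fun j => by
      rw [hA, ((show Commute e f from D.comm₁ e D.e_mem f D.f_mem).inv_right).mul_pow, inv_pow,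
        ← D.toAmalgam.pow_val_neg D.f_mem]
      have : 2 * j = -j := by revert j; decide
      simp [chi, this]
    have e3 : ∀ k : ZMod 3, chi e f d (0, 0, k) = d ^ k.val := fun k => by simp [chi]
    exact ⟨i.val, j.val, k.val, by rw [hv, Dg.chi_add, Dg.chi_add, e1, e2, e3]⟩
  have hXQ : X ∈ Q₁ := D.self₁ (mem_centralizer_iff.2 fun x hx => by
    obtain ⟨i, j, k, rfl⟩ := hgenQ x hx
    have h : MulAut.conj X (β ^ i * A ^ j * d ^ k) = β ^ i * A ^ j * d ^ k := by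
      rw [map_mul, map_mul, map_pow, map_pow, map_pow, hXz, hXA, hXd]
    rw [MulAut.conj_apply, mul_inv_eq_iff_eq_mul] at h
    exact h.symm)
  have htw : t * w * t = u * w⁻¹ * u := by
    rw [hwd]
    calc t * (u * c) * t = (t * u) * c * t := by simp [mul_assoc]
      _ = u * (t * c * t) := by rw [D.tu]; simp [mul_assoc]
      _ = _ := by rw [htc, mul_inv_rev, hui, mul_assoc, mul_assoc, D.u2, mul_one]
  have htX : t * X * t = u * X⁻¹ * u := by
    rw [hX, conj_inv_mul D.t2, conj_inv_mul D.t2, htw, ← conj_inv_mul D.u2, ← conj_inv_mul D.u2]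
    simp [mul_assoc]
  obtain ⟨v, hv⟩ := Dg.exists_chi hXQ
  rw [hv, Dg.chi_t, ← Dg.chi_neg, Dg.chi_u] at htX
  have hv0 : v.1 = 0 ∧ v.2.2 = 0 := by
    have h := Dg.chi_inj htX
    revert h; generalize v = q; revert q; decide
  have hXf : MulAut.conj w X = X := by
    rw [MulAut.conj_apply, hX]; group
  have hX1 : X = 1 := by
    rw [hv] at hXf ⊢
    have hvv : v = (0, v.2.1, 0) := Prod.ext hv0.1 (Prod.ext rfl hv0.2)
    rw [hvv] at hXf ⊢
    have hval : chi e f d (0, v.2.1, 0) = f ^ v.2.1.val := by simp [chi]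
    rw [hval, map_pow] at hXf
    have hfimg : MulAut.conj w f = chi e f d (1, 1, 1) := by
      have hf : f = β * β * A := by
        rw [← Dg.chi_f, ← Dg.chi_z, ← chiA, ← Dg.chi_add, ← Dg.chi_add]
        exact congrArg (chi e f d) (by decide)
      conv_lhs => rw [hf, map_mul, map_mul, hw1, hw2]
      rw [show ((1, 1, 1) : Vec) = (1, 2, 0) + (1, 2, 0) + ((1, 1, 0) + (0, 0, 1) + (1, 2, 0)) by decide]
      simp only [Dg.chi_add, chiA, Dg.chi_z, Dg.chi_d]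
    rw [hfimg] at hXf
    rw [hval]
    rcases ((by decide : ∀ j : ZMod 3, j = 0 ∨ j = 1 ∨ j = 2) v.2.1) with h | h | h
    · rw [h]; simp
    · rw [h, ZMod.val_one, pow_one, pow_one] at hXf
      exact absurd (Dg.chi_inj (hXf.trans Dg.chi_f.symm)) (by decide)
    · have hff : f * f = chi e f d ((0, 1, 0) + (0, 1, 0)) := by rw [Dg.chi_add, Dg.chi_f]
      rw [h, show (2 : ZMod 3).val = 2 from rfl, pow_two, pow_two, ← Dg.chi_add] at hXf
      exact absurd (Dg.chi_inj (hXf.trans hff)) (by decide)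
  have hrels : Rels A S u d := by
    constructor
    · rw [← pow_two, ← pow_succ, hA3]
    · exact hS4
    · rw [hS2]; exact hAS
    · rw [hS2, ← ha]; exact (ht a).symm
    · exact D.u2
    · rw [hS2]; exact D.tu.symm
    · rw [huAu]; exact (cA hzQ).eq
    · rw [← ha, hS]; exact hcomm a s
    · rw [hS]; exact hcomm s s
    · rw [← pow_two, ← pow_succ, hd3]
    · exact (cd hAQ).eq
    · rw [huAu]; exact (cd hzQ).eq
    · rw [D.ud, inv_mul_cancel]
    · rw [hS2, D.td, inv_mul_cancel]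
    · rw [huAu, ← hc]; exact hβ'
    · rw [huAu, ← hc]; exact hy'
    · rw [← hc, ← hwd, ← hX]; exact hX1
  refine ⟨A, S, hrels, ?_⟩
  -- generation
  set K := closure ({A, S, u, d} : Set G) with hK
  have hAK : A ∈ K := subset_closure (by simp)
  have hSK : S ∈ K := subset_closure (by simp)
  have huK : u ∈ K := subset_closure (by simp)
  have hdK : d ∈ K := subset_closure (by simp)
  have hzK : β ∈ K := huAu ▸ mul_mem (mul_mem huK hAK) huK
  have hcK : c ∈ K := hc ▸ mul_mem (mul_mem hSK hdK) (inv_mem hSK)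
  have hφK : ∀ g : SL3, φ g ∈ K := fun g => by
    obtain ⟨j, i, l, k, rfl⟩ := sl_words a s ha3 ha1 hs2 has g
    simp only [map_mul, map_pow, ha]
    exact mul_mem (mul_mem (mul_mem (pow_mem hSK _) (pow_mem hAK _)) (pow_mem hSK _)) (pow_mem hAK _)
  have hQ₂K : Q₂ ≤ K := by
    have hle : Q₁ ⊓ Q₂ ≤ Q₂ ⊓ K := le_inf inf_le_right (hinf.1.trans (by
      rw [closure_le]; rintro x (rfl | rfl); exacts [hzK, hdK]))
    have hcn : c ∉ Q₁ ⊓ Q₂ := fun h => by
      have h1 := D.comm₁ c h.1 d hdQ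
      rw [hcd', mul_assoc] at h1
      have h1' : β * (d * c) = d * c := h1
      exact D.z_ne (mul_eq_right.mp h1')
    obtain ⟨n, hn, hn'⟩ := (Nat.dvd_prime_pow Nat.prime_three).1
      (show Nat.card ↥(Q₂ ⊓ K) ∣ 3 ^ 3 by
        rw [show 3 ^ 3 = Nat.card Q₂ from D.card_Q₂.symm]; exact card_dvd_of_le inf_le_left)
    have hn3 : n = 3 := by
      by_contra hne
      have hle9 : Nat.card ↥(Q₂ ⊓ K) ≤ Nat.card ↥(Q₁ ⊓ Q₂) := by
        rw [hn', D.toAmalgam.card_inf]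
        calc 3 ^ n ≤ 3 ^ 2 := Nat.pow_le_pow_right (by norm_num) (by omega)
          _ = 9 := by norm_num
      exact hcn ((eq_of_le_of_card_ge hle hle9).symm ▸ (⟨hcQ, hcK⟩ : c ∈ Q₂ ⊓ K))
    have := eq_of_le_of_card_ge (inf_le_left : Q₂ ⊓ K ≤ Q₂) (by rw [hn', hn3, D.card_Q₂]; norm_num)
    exact inf_eq_left.mp this
  have hA₂K : A₂ ≤ K := by
    have hφA : ∀ g, φ g ∈ A₂ := fun g => D.cent_z ▸ mem_centralizer_singleton_iff.2 (hz g)
    let F : ↥Q₂ × SL3 → ↥A₂ := fun p => ⟨(p.1 : G) * φ p.2, mul_mem (D.le₂ p.1.2) (hφA p.2)⟩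
    have hF : Function.Injective F := by
      rintro ⟨q, g⟩ ⟨q', g'⟩ h
      have h0 : (q : G) * φ g = (q' : G) * φ g' := congrArg Subtype.val h
      have hmem : φ (g * g'⁻¹) ∈ Q₂ := by
        rw [map_mul, map_inv, show φ g * (φ g')⁻¹ = (q : G)⁻¹ * ((q : G) * φ g) * (φ g')⁻¹ by group, h0]
        simpa [mul_assoc] using mul_mem (inv_mem q.2) q'.2
      set x := g * g'⁻¹ with hx
      have hsq : φ (x * x) ∈ zpowers β := by
        have := D.t_inv _ hmem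
        rwa [← ht x, mul_assoc (φ x) t t⁻¹, mul_inv_cancel, mul_one, ← map_mul] at this
      have hx1 : x * x * (x * x) * (x * x) = 1 := hinj (by
        rw [map_one, map_mul φ (x * x * (x * x)), map_mul φ (x * x) (x * x), ← pow_two, ← pow_succ]
        exact D.exp₁ _ (D.toAmalgam.z_le hsq).1)
      have hx2 : x * x = 1 := by
        by_contra hne
        have hc' : ∀ b : SL3, x * x * b = b * (x * x) := fun b => hinj (by
          rw [map_mul φ (x * x) b, map_mul φ b (x * x)]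
          exact (D.toAmalgam.z_central (hφA b) hsq).symm)
        have h33 : ∀ y : SL3, y * y * y = 1 → (∀ b, y * b = b * y) → y = 1 := by decide +kernel
        exact hne (h33 _ hx1 hc')
      have hx0 : x = 1 := by
        rcases sl_involution x hx2 with h' | h'
        · exact h'
        · exfalso
          obtain ⟨π, hπs, hπ⟩ := D.quot₂
          rw [h', hneg] at hmem
          exact negOne_ne ((Dg.t_img π hπs hπ D.t_mem₂).symm.trans ((hπ ⟨t, D.t_mem₂⟩).2 hmem))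
      obtain rfl : g = g' := mul_inv_eq_one.mp hx0
      exact Prod.ext (Subtype.ext (mul_right_cancel h0)) rfl
    have hb : Function.Bijective F := (Nat.bijective_iff_injective_and_card F).2 ⟨hF, by
      rw [Nat.card_prod, D.card_Q₂, D.card_A₂, card_SL3]⟩
    intro x hx
    obtain ⟨⟨q, g⟩, h⟩ := hb.2 ⟨x, hx⟩
    rw [← show (q : G) * φ g = x from congrArg Subtype.val h]
    exact mul_mem (hQ₂K q.2) (hφK g)
  have hA₁K : A₁ ≤ K := by
    intro g hg
    have key : ∀ k ∈ K, g * β * g⁻¹ = k * β * k⁻¹ → g ∈ K := fun k hk hgk => by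
      have hmem : k⁻¹ * g ∈ A₂ := by
        rw [← D.cent_z, mem_centralizer_singleton_iff]
        calc k⁻¹ * g * β = k⁻¹ * (g * β * g⁻¹) * g := by group
          _ = β * (k⁻¹ * g) := by rw [hgk]; group
      have := mul_mem hk (hA₂K hmem)
      rwa [mul_inv_cancel_left] at this
    have hcu : ∀ x : G, x * A * x⁻¹ = (x * u) * β * (x * u)⁻¹ := fun x => by
      rw [← huzu, mul_inv_rev, hui]; simp [mul_assoc]
    rcases D.orbit g hg with h | h | h | h
    · refine key 1 (one_mem K) ?_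
      rw [h, ← D.z_eq]; simp
    · refine key u huK ?_
      rw [h, ← hA, hui, huzu]
    · refine key (c⁻¹ * u) (mul_mem (inv_mem hcK) huK) ?_
      have hv : d * β * A = chi e f d ((0, 0, 1) + (1, 1, 0) + (1, 2, 0)) := by
        rw [Dg.chi_add, Dg.chi_add, Dg.chi_d, Dg.chi_z, chiA]
      rw [h, ← hcu, inv_inv, hconjA, hv]
      exact Dg.chi_three.symm.trans (congrArg (chi e f d) (by decide))
    · refine key (c * u) (mul_mem hcK huK) ?_
      have hv : A * d⁻¹ * β = chi e f d ((1, 2, 0) + -(0, 0, 1) + (1, 1, 0)) := by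
        rw [Dg.chi_add, Dg.chi_add, Dg.chi_neg, Dg.chi_d, Dg.chi_z, chiA]
      rw [h, ← hcu, hcAc, hv]
      exact Dg.chi_four.symm.trans (congrArg (chi e f d) (by decide))
  exact sup_le hA₁K hA₂K

end Cfsg.Agent.PSpAmalgam
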