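import Cfsg.Agent.Lib.PSpAmalgam.Rels
import Cfsg.Agent.Lib.Classical.Symplectic

/-!
# The generators `A, S, u, d` in `PSp₄(3)`

Four matrices over the field with three elements satisfy the relations up to sign, and the transvections
are conjugates of the powers of `A` by words in them, so they generate.
-/

set_option autoImplicit false
set_option maxRecDepth 100000
set_option synthInstance.maxSize 10000
set_option linter.unusedVariables false
set_option linter.style.haveILetI false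

namespace Cfsg.Agent.PSpAmalgam

open Matrix Cfsg.Agent.Forms.SympStd Cfsg.Agent.Classical.Symplectic

namespace RelsModel

local notation "K" => ZMod 3
local notation "Ix" => Fin 2 ⊕ Fin 2
local notation "Sp3" => Matrix.symplecticGroup (Fin 2) (ZMod 3)

/-- The generator `A`. -/
def gA : Sp3 := ⟨fromBlocks 1 !![1, 0; 0, 0] 0 1, by rw [SymplecticGroup.mem_iff]; decide +kernel⟩

/-- The generator `S`. -/
def gS : Sp3 := ⟨fromBlocks !![0, 0; 0, 1] !![-1, 0; 0, 0] !![1, 0; 0, 0] !![0, 0; 0, 1],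
  by rw [SymplecticGroup.mem_iff]; decide +kernel⟩

/-- The generator `u`. -/
def gU : Sp3 := ⟨fromBlocks !![0, 1; -1, 0] 0 0 !![0, 1; -1, 0],
  by rw [SymplecticGroup.mem_iff]; decide +kernel⟩

/-- The generator `d`. -/
def gD : Sp3 := ⟨fromBlocks 1 !![0, 1; 1, 0] 0 1, by rw [SymplecticGroup.mem_iff]; decide +kernel⟩

/-- Equality up to sign. -/
def PM (a b : Sp3) : Prop := (a : Matrix Ix Ix K) = b ∨ (a : Matrix Ix Ix K) = -(b : Matrix Ix Ix K)

instance (a b : Sp3) : Decidable (PM a b) := inferInstanceAs (Decidable (_ ∨ _))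

theorem rel : PM (gA * gA * gA) 1 ∧ PM (gS * gS * (gS * gS)) 1 ∧
    PM (gA * gS * (gA * gS) * (gA * gS)) (gS * gS) ∧ PM (gS * gS * gA) (gA * (gS * gS)) ∧
    PM (gU * gU) 1 ∧ PM (gU * (gS * gS)) (gS * gS * gU) ∧
    PM (gA * (gU * gA * gU)) (gU * gA * gU * gA) ∧ PM (gA * (gU * gS * gU)) (gU * gS * gU * gA) ∧
    PM (gS * (gU * gS * gU)) (gU * gS * gU * gS) ∧ PM (gD * gD * gD) 1 ∧ PM (gD * gA) (gA * gD) ∧
    PM (gD * (gU * gA * gU)) (gU * gA * gU * gD) ∧ PM (gU * gD * gU * gD) 1 ∧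
    PM (gS * gS * gD * (gS * gS) * gD) 1 ∧
    PM (gS * gD * gS⁻¹ * gD * (gS * gD * gS⁻¹)⁻¹ * gD⁻¹) (gU * gA * gU) ∧
    PM (gA * (gS * gD * gS⁻¹) * gA⁻¹) (gS * gD * gS⁻¹ * gD * (gU * gA * gU)) ∧
    PM (gU * (gS * gD * gS⁻¹) * (gU * (gS * gD * gS⁻¹)) * (gU * (gS * gD * gS⁻¹))) 1 := by
  decide +kernel

/-- The vector with the given coordinates. -/
def vec : K × K × K × K → (Ix → K)
  | (a, b, c, d), .inl i => ![a, b] i
  | (a, b, c, d), .inr i => ![c, d] i

/-- The four generators. -/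
def gen : Fin 4 → Sp3 := ![gA, gS, gU, gD]

/-- Their actions on coordinates. -/
def act : Fin 4 → K × K × K × K → K × K × K × K
  | 0, (a, b, c, d) => (a + c, b, c, d)
  | 1, (a, b, c, d) => (-c, b, a, d)
  | 2, (a, b, c, d) => (b, -a, d, -c)
  | 3, (a, b, c, d) => (a + d, b + c, c, d)

theorem act_spec : ∀ i x, ((gen i : Sp3) : Matrix Ix Ix K) *ᵥ vec x = vec (act i x) := by
  decide +kernel

/-- For each line, a word moving the first basis vector into it. -/
def words : List ((K × K × K × K) × List (Fin 4)) := [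
  ((1, 0, 0, 0), []),
  ((0, 0, 1, 0), [1]),
  ((0, 2, 0, 0), [2]),
  ((1, 0, 1, 0), [0, 1]),
  ((0, 0, 0, 2), [2, 1]),
  ((0, 1, 1, 0), [3, 1]),
  ((2, 0, 1, 0), [0, 0, 1]),
  ((0, 2, 0, 2), [2, 0, 1]),
  ((1, 1, 1, 0), [3, 0, 1]),
  ((2, 0, 0, 2), [3, 2, 1]),
  ((2, 1, 0, 0), [1, 3, 1]),
  ((1, 0, 0, 2), [2, 3, 1]),
  ((0, 2, 1, 0), [3, 3, 1]),
  ((0, 1, 0, 2), [2, 0, 0, 1]),
  ((2, 1, 1, 0), [3, 0, 0, 1]),
  ((2, 2, 0, 2), [3, 2, 0, 1]),
  ((1, 2, 0, 2), [2, 3, 0, 1]),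
  ((1, 2, 1, 0), [3, 3, 0, 1]),
  ((0, 0, 2, 2), [1, 3, 2, 1]),
  ((1, 1, 0, 0), [2, 1, 3, 1]),
  ((0, 0, 1, 2), [1, 2, 3, 1]),
  ((2, 1, 0, 2), [3, 2, 0, 0, 1]),
  ((1, 1, 0, 2), [2, 3, 0, 0, 1]),
  ((2, 2, 1, 0), [3, 3, 0, 0, 1]),
  ((0, 2, 2, 2), [1, 3, 2, 0, 1]),
  ((0, 2, 1, 2), [1, 2, 3, 0, 1]),
  ((2, 0, 2, 2), [0, 1, 3, 2, 1]),
  ((2, 2, 2, 2), [3, 1, 3, 2, 1]),
  ((1, 0, 1, 2), [0, 1, 2, 3, 1]),
  ((2, 1, 1, 2), [3, 1, 2, 3, 1]),
  ((0, 1, 2, 2), [1, 3, 2, 0, 0, 1]),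
  ((0, 1, 1, 2), [1, 2, 3, 0, 0, 1]),
  ((2, 1, 2, 2), [3, 1, 3, 2, 0, 1]),
  ((1, 2, 1, 2), [0, 1, 2, 3, 0, 1]),
  ((2, 0, 1, 2), [3, 1, 2, 3, 0, 1]),
  ((1, 0, 2, 2), [0, 0, 1, 3, 2, 1]),
  ((1, 2, 2, 2), [3, 0, 1, 3, 2, 1]),
  ((1, 1, 2, 2), [3, 3, 1, 3, 2, 1]),
  ((1, 1, 1, 2), [0, 1, 2, 3, 0, 0, 1]),
  ((2, 2, 1, 2), [3, 1, 2, 3, 0, 0, 1])]

theorem words_cover : ∀ x : K × K × K × K, x = 0 ∨ ∃ e ∈ words,
    (e.1 = x ∨ -e.1 = x) ∧ e.2.foldr act (1, 0, 0, 0) = e.1 := by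
  decide +kernel

theorem tv_one : (gA : Matrix Ix Ix K) = Cfsg.sympTransvection 2 (vec (1, 0, 0, 0)) (1 : K) := by
  decide +kernel

theorem closure_eq : Subgroup.closure ({gA, gS, gU, gD} : Set Sp3) = ⊤ := by
  set H := Subgroup.closure ({gA, gS, gU, gD} : Set Sp3) with hH
  have hgen : ∀ i, gen i ∈ H := fun i => Subgroup.subset_closure (by fin_cases i <;> simp [gen])
  have hword : ∀ l : List (Fin 4), tv (vec (l.foldr act (1, 0, 0, 0))) (1 : K) ∈ H := by
    intro l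
    induction l with
    | nil =>
      rw [show tv (vec ([].foldr act (1, 0, 0, 0))) (1 : K) = gA from
        (Subtype.ext tv_one).symm]
      exact hgen 0
    | cons i l ih =>
      rw [List.foldr_cons, ← act_spec, ← tv_conj]
      exact mul_mem (mul_mem (hgen i) ih) (inv_mem (hgen i))
  have hall : ∀ (v : Ix → K) (c : K), tv v c ∈ H := by
    intro v c
    have hc : tv v (1 : K) ∈ H := by
      obtain ⟨x, rfl⟩ : ∃ x, vec x = v := ⟨(v (.inl 0), v (.inl 1), v (.inr 0), v (.inr 1)), by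
        funext j
        rcases j with j | j <;> fin_cases j <;> rfl⟩
      rcases words_cover x with rfl | ⟨e, -, he, hw⟩
      · have : tv (vec 0) (1 : K) = 1 := sp_ext fun y => by
          rw [tv_mulVec, show vec 0 = 0 from by funext j; rcases j with j | j <;> fin_cases j <;> rfl]
          simp
        rw [this]
        exact one_mem H
      · have h := hword e.2
        rw [hw] at h
        rcases he with he | he
        · rwa [← he]
        · rw [← he, show vec (-e.1) = (-1 : K) • vec e.1 from by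
            funext j; rcases j with j | j <;> fin_cases j <;> simp [vec], tv_smul,
            show (-1 : K) * -1 * (1 : K) = 1 from by decide]
          exact h
    rcases (by decide +revert : c = 0 ∨ c = (1 : K) ∨ c = (1 : K) + 1) with rfl | rfl | rfl
    · rw [tv_zero]; exact one_mem H
    · exact hc
    · rw [← tv_mul]; exact mul_mem hc hc
  rw [eq_top_iff, ← closure_tvSet_eq_top, Subgroup.closure_le]
  rintro M ⟨w, c, -, hM⟩
  rw [show M = tv w c from Subtype.ext hM]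
  exact hall w c

variable (F : Type*) [Field F] (f : K →+* F)

/-- The change of field. -/
def mapSp : Sp3 →* Matrix.symplecticGroup (Fin 2) F where
  toFun a := ⟨(a : Matrix Ix Ix K).map f, by
    have h := congrArg (fun M : Matrix Ix Ix K => f.mapMatrix M) (SymplecticGroup.mem_iff.1 a.2)
    simp only [map_mul] at h
    have hJ : f.mapMatrix (Matrix.J (Fin 2) K) = Matrix.J (Fin 2) F := by
      ext (i | i) (j | j) <;> simp [Matrix.J, Matrix.one_apply, apply_ite f]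
    rw [hJ, show f.mapMatrix (a : Matrix Ix Ix K)ᵀ = (f.mapMatrix (a : Matrix Ix Ix K))ᵀ from rfl] at h
    exact SymplecticGroup.mem_iff.2 h⟩
  map_one' := Subtype.ext (map_one f.mapMatrix)
  map_mul' a b := Subtype.ext (map_mul f.mapMatrix (a : Matrix Ix Ix K) b)

end RelsModel

open RelsModel in
theorem exists_rels_model (F : Type*) [Field F] [Fintype F] (hF : Fintype.card F = 3) :
    ∃ A S u d : Cfsg.PSp 2 F, Rels A S u d ∧
      Subgroup.closure ({A, S, u, d} : Set (Cfsg.PSp 2 F)) = ⊤ := by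
  let ι : ZMod 3 ≃+* F := ZMod.ringEquivOfPrime F Nat.prime_three hF
  let θ : Matrix.symplecticGroup (Fin 2) (ZMod 3) →* Cfsg.PSp 2 F :=
    (QuotientGroup.mk' (Subgroup.center (Matrix.symplecticGroup (Fin 2) F))).comp (mapSp F ι.toRingHom)
  have hsurj : Function.Surjective θ := by
    intro y
    obtain ⟨b, rfl⟩ := QuotientGroup.mk'_surjective _ y
    refine ⟨⟨(b : Matrix (Fin 2 ⊕ Fin 2) (Fin 2 ⊕ Fin 2) F).map ι.symm, ?_⟩, ?_⟩
    · have h := congrArg (fun M : Matrix (Fin 2 ⊕ Fin 2) (Fin 2 ⊕ Fin 2) F => ι.symm.toRingHom.mapMatrix M)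
        (SymplecticGroup.mem_iff.1 b.2)
      simp only [map_mul] at h
      have hJ : ι.symm.toRingHom.mapMatrix (Matrix.J (Fin 2) F) = Matrix.J (Fin 2) (ZMod 3) := by
        ext (i | i) (j | j) <;> simp [Matrix.J, Matrix.one_apply, apply_ite ι.symm]
      rw [hJ] at h
      exact SymplecticGroup.mem_iff.2 h
    · refine congrArg (QuotientGroup.mk' _) (Subtype.ext (Matrix.ext fun i j => ?_))
      exact ι.apply_symm_apply _
  have hpm : ∀ a b, PM a b → θ a = θ b := by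
    intro a b h
    rcases h with h | h
    · rw [Subtype.ext h]
    · show (QuotientGroup.mk (mapSp F ι.toRingHom a) : Cfsg.PSp 2 F) = QuotientGroup.mk (mapSp F ι.toRingHom b)
      refine QuotientGroup.eq.2 ((mem_center_iff _).2 ⟨-1, fun v => ?_⟩)
      set a' := mapSp F ι.toRingHom a with ha'
      set b' := mapSp F ι.toRingHom b with hb'
      have hab : (b' : Matrix (Fin 2 ⊕ Fin 2) (Fin 2 ⊕ Fin 2) F) = -(a' : Matrix _ _ F) := by
        refine Matrix.ext fun i j => ?_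
        show ι ((b : Matrix _ _ (ZMod 3)) i j) = -ι ((a : Matrix _ _ (ZMod 3)) i j)
        rw [h, Matrix.neg_apply, map_neg, neg_neg]
      rw [mul_mulVec_sp, hab, Matrix.neg_mulVec, Matrix.mulVec_neg, ← mul_mulVec_sp, inv_mul_cancel,
        neg_one_smul]
      exact congrArg Neg.neg (Matrix.one_mulVec v)
  obtain ⟨A3, S4, AS, SA, u2, uS, AA, AuS, SuS, d3, dA, dz, ud, td, cd, Ac, uc⟩ := rel
  refine ⟨θ gA, θ gS, θ gU, θ gD, ⟨?_, ?_, ?_, ?_, ?_, ?_, ?_, ?_, ?_, ?_, ?_, ?_, ?_, ?_, ?_, ?_, ?_⟩, ?_⟩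
  · simpa only [map_mul, map_one] using hpm _ _ A3
  · simpa only [map_mul, map_one] using hpm _ _ S4
  · simpa only [map_mul] using hpm _ _ AS
  · simpa only [map_mul] using hpm _ _ SA
  · simpa only [map_mul, map_one] using hpm _ _ u2
  · simpa only [map_mul] using hpm _ _ uS
  · simpa only [map_mul] using hpm _ _ AA
  · simpa only [map_mul] using hpm _ _ AuS
  · simpa only [map_mul] using hpm _ _ SuS
  · simpa only [map_mul, map_one] using hpm _ _ d3
  · simpa only [map_mul] using hpm _ _ dA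
  · simpa only [map_mul] using hpm _ _ dz
  · simpa only [map_mul, map_one] using hpm _ _ ud
  · simpa only [map_mul, map_one] using hpm _ _ td
  · simpa only [map_mul, map_inv] using hpm _ _ cd
  · simpa only [map_mul, map_inv] using hpm _ _ Ac
  · simpa only [map_mul, map_inv, map_one] using hpm _ _ uc
  · have h := congrArg (Subgroup.map θ) closure_eq
    rw [MonoidHom.map_closure, Subgroup.map_top_of_surjective θ hsurj] at h
    simpa [Set.image_insert_eq] using h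

end Cfsg.Agent.PSpAmalgam
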